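import Cfsg.Agent.S0494
import Cfsg.Agent.S0495
import Cfsg.Agent.S0496
import Cfsg.Agent.S0497
import Cfsg.Agent.S0498
import Cfsg.Agent.S0981
import Cfsg.Agent.S0983
import Cfsg.Agent.S0984
import Cfsg.Agent.S1011
import Cfsg.Agent.S1020
import Cfsg.Agent.S1021
import Cfsg.Agent.Lib.SmallSimple.Orders3640.Main
import Cfsg.Agent.Lib.SmallSimple.Order5616.Main

/-!
# Simple groups of order less than six thousand: orders and uniqueness
-/

set_option autoImplicit false
set_option linter.style.haveILetI false

namespace Cfsg.Agent.SmallSimple.DegreeGraph6000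

/-- The orders of the non-abelian simple groups of order less than six thousand. -/
def ord : List ℕ := [60, 168, 360, 504, 660, 1092, 2448, 2520, 3420, 4080, 5616]

theorem mem_ord {S : Type*} [Group S] [Finite S] [IsSimpleGroup S] (hS : ¬ IsMulCommutative S)
    (hlt : Nat.card S < 6000) : Nat.card S ∈ ord := by
  simp only [ord, List.mem_cons, List.not_mem_nil, or_false]
  by_cases h1 : Nat.card S ≤ 1092
  · rcases S0496.result hS h1 with e | e | e | e | e | e <;> simp [e]
  by_cases h2 : Nat.card S ≤ 3640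
  · rcases Orders3640.orders hS (by omega) h2 with e | e | e <;> simp [e]
  · rcases S0983.result hS (by omega) (by omega) with e | e | e | e <;> simp [e] <;> omega

theorem not_comm_of_mem_ord {S : Type*} [Group S] [Finite S] [IsSimpleGroup S]
    (h : Nat.card S ∈ ord) : ¬ IsMulCommutative S := by
  refine SmallSimple.Basic.not_comm_of_not_prime ?_
  have : ∀ n ∈ ord, ¬ n.Prime := by
    intro n hn
    simp only [ord, List.mem_cons, List.not_mem_nil, or_false] at hn
    rcases hn with e | e | e | e | e | e | e | e | e | e | e <;> subst e <;> norm_num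
  exact this _ h

/-- A group of order less than six thousand none of whose divisors is a simple order is solvable. -/
theorem isSolvable_of_no_ord {G : Type*} [Group G] [Finite G] (h : Nat.card G < 6000)
    (hd : ∀ t ∈ ord, ¬ t ∣ Nat.card G) : Group.IsSolvable G := by
  induction hn : Nat.card G using Nat.strong_induction_on generalizing G with
  | _ n ih =>
    subst hn
    rcases subsingleton_or_nontrivial G with hs | hs
    · exact isSolvable_of_comm fun a b => Subsingleton.elim _ _
    by_cases hsimp : IsSimpleGroup G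
    · by_cases hc : IsMulCommutative G
      · exact isSolvable_of_comm fun a b => mul_comm' a b
      · exact absurd (dvd_refl _) (hd _ (mem_ord hc h))
    · obtain ⟨N, hN, hN0, hN1⟩ : ∃ N : Subgroup G, N.Normal ∧ N ≠ ⊥ ∧ N ≠ ⊤ := by
        by_contra hne
        push Not at hne
        exact hsimp ⟨fun N hN => (em (N = ⊥)).imp id fun h0 => hne N hN h0⟩
      have hmul := Subgroup.card_eq_card_quotient_mul_card_subgroup N
      have h1 : 1 < Nat.card N := (Subgroup.one_lt_card_iff_ne_bot N).2 hN0
      have h2 : 1 < Nat.card (G ⧸ N) := by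
        have h0 : N.index ≠ 0 := Subgroup.index_ne_zero_of_finite
        have h1 : N.index ≠ 1 := fun e => hN1 (Subgroup.index_eq_one.1 e)
        change 1 < N.index
        omega
      haveI : Group.IsSolvable N := ih _ (by nlinarith) (by nlinarith)
        (fun t ht hdvd => hd t ht (hdvd.trans (Subgroup.card_subgroup_dvd_card N))) rfl
      haveI : Group.IsSolvable (G ⧸ N) := ih _ (by nlinarith) (by nlinarith)
        (fun t ht hdvd => hd t ht (hdvd.trans ⟨_, hmul⟩)) rfl
      exact solvable_of_ker_le_range N.subtype (QuotientGroup.mk' N) (by simp)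

/-- Simple groups of equal order less than six thousand are isomorphic. -/
theorem unique {G S : Type*} [Group G] [Finite G] [IsSimpleGroup G] [Group S] [Finite S]
    [IsSimpleGroup S] (hS : Nat.card S ∈ ord) (hG : Nat.card G = Nat.card S) :
    Nonempty (G ≃* S) := by
  simp only [ord, List.mem_cons, List.not_mem_nil, or_false] at hS
  haveI : Fact (Nat.Prime 2) := ⟨Nat.prime_two⟩
  haveI : Fact (Nat.Prime 7) := ⟨by norm_num⟩
  haveI : Fact (Nat.Prime 11) := ⟨by norm_num⟩
  haveI : Fact (Nat.Prime 13) := ⟨by norm_num⟩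
  haveI : Fact (Nat.Prime 17) := ⟨by norm_num⟩
  haveI : Fact (Nat.Prime 19) := ⟨by norm_num⟩
  rcases hS with e | e | e | e | e | e | e | e | e | e | e <;> rw [e] at hG
  · obtain ⟨f⟩ := S0494.result hG
    obtain ⟨g⟩ := S0494.result e
    exact ⟨f.trans g.symm⟩
  · obtain ⟨f⟩ := S0495.result hG (F := ZMod 7) (ZMod.card 7)
    obtain ⟨g⟩ := S0495.result e (F := ZMod 7) (ZMod.card 7)
    exact ⟨f.trans g.symm⟩
  · obtain ⟨f⟩ := S0497.result hG
    obtain ⟨g⟩ := S0497.result e
    exact ⟨f.trans g.symm⟩
  · haveI : Fintype (GaloisField 2 3) := Fintype.ofFinite _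
    have hF : Fintype.card (GaloisField 2 3) = 8 := by
      rw [← Nat.card_eq_fintype_card, GaloisField.card 2 3 (by norm_num)]; norm_num
    obtain ⟨f⟩ := S1011.result hG hF
    obtain ⟨g⟩ := S1011.result e hF
    exact ⟨f.trans g.symm⟩
  · obtain ⟨f⟩ := S0498.result (G := G) 11 (Or.inl rfl) (by rw [hG]; norm_num) (F := ZMod 11) (ZMod.card 11)
    obtain ⟨g⟩ := S0498.result (G := S) 11 (Or.inl rfl) (by rw [e]; norm_num) (F := ZMod 11) (ZMod.card 11)
    exact ⟨f.trans g.symm⟩
  · obtain ⟨f⟩ := S0498.result (G := G) 13 (Or.inr rfl) (by rw [hG]; norm_num) (F := ZMod 13) (ZMod.card 13)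
    obtain ⟨g⟩ := S0498.result (G := S) 13 (Or.inr rfl) (by rw [e]; norm_num) (F := ZMod 13) (ZMod.card 13)
    exact ⟨f.trans g.symm⟩
  · obtain ⟨f⟩ := S1020.result hG (F := ZMod 17) (ZMod.card 17)
    obtain ⟨g⟩ := S1020.result e (F := ZMod 17) (ZMod.card 17)
    exact ⟨f.trans g.symm⟩
  · obtain ⟨f⟩ := S0984.result hG
    obtain ⟨g⟩ := S0984.result e
    exact ⟨f.trans g.symm⟩
  · obtain ⟨f⟩ := S1021.result hG (F := ZMod 19) (ZMod.card 19)
    obtain ⟨g⟩ := S1021.result e (F := ZMod 19) (ZMod.card 19)
    exact ⟨f.trans g.symm⟩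
  · haveI : Fintype (GaloisField 2 4) := Fintype.ofFinite _
    have hF : Fintype.card (GaloisField 2 4) = 16 := by
      rw [← Nat.card_eq_fintype_card, GaloisField.card 2 4 (by norm_num)]; norm_num
    obtain ⟨f⟩ := S0981.result hG hF
    obtain ⟨g⟩ := S0981.result e hF
    exact ⟨f.trans g.symm⟩
  · exact Order5616.unique hG e

end Cfsg.Agent.SmallSimple.DegreeGraph6000
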