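import Cfsg.Agent.Lib.SmallSimple.DegreeGraph6000.Coprime
import Cfsg.Agent.Lib.CharTheory.Ito
import Cfsg.Prelude.Def_DegreeGraph

/-!
# A prime that is no vertex of the degree graph of a solvable group of special order
-/

set_option autoImplicit false
set_option linter.style.haveILetI false

namespace Cfsg.Agent.SmallSimple.DegreeGraph6000

open Subgroup

variable {G : Type*} [Group G] [Finite G]

/-- A prime not dividing the index of an abelian normal subgroup is no vertex. -/
theorem not_vertex_of_abelian {r : ℕ} (A : Subgroup G) [A.Normal]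
    (hA : ∀ a ∈ A, ∀ b ∈ A, a * b = b * a) (hr : ¬ r ∣ A.index) : r ∉ Cfsg.degreePrimes G := by
  rintro ⟨-, d, ⟨χ, hχ⟩, hrd⟩
  obtain ⟨d', hd', hdvd⟩ := CharTheory.Ito.degree_dvd_index_abelian A hA χ.2
  have : Cfsg.charDegree (χ : G → ℂ) = d' := by
    rw [Cfsg.charDegree, hd', Complex.natCast_re, Nat.floor_natCast]
  rw [this] at hχ
  exact hr (hrd.trans (hχ ▸ hdvd))

/-- A Sylow subgroup of the Fitting subgroup is normal in the group. -/
theorem fitting_sylow (p : ℕ) [Fact p.Prime] (P : Sylow p (Cfsg.fittingSubgroup G)) :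
    ((P : Subgroup (Cfsg.fittingSubgroup G)).map (Cfsg.fittingSubgroup G).subtype).Normal := by
  haveI : (Cfsg.fittingSubgroup G).Normal := Cores.fittingSubgroup_normal
  haveI : Group.IsNilpotent (Cfsg.fittingSubgroup G) := Cores.fittingSubgroup_isNilpotent
  haveI hPn : (P : Subgroup (Cfsg.fittingSubgroup G)).Normal := inferInstance
  haveI : (P : Subgroup (Cfsg.fittingSubgroup G)).Characteristic := P.characteristic_of_normal hPn
  exact ConjAct.normal_of_characteristic_of_normal

theorem not_vertex_solvable [Group.IsSolvable G] {p q0 : ℕ} [Fact p.Prime]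
    (hp : p ∣ Nat.card G) (hp2 : ¬ p ^ 2 ∣ Nat.card G)
    (hq : ∀ q a, q.Prime → q ≠ p → 1 ≤ a → q ^ a ∣ Nat.card G → q ^ a ≡ 1 [MOD p] →
      q = q0 ∧ ¬ q ^ (a + 1) ∣ Nat.card G) :
    p ∉ Cfsg.degreePrimes G ∨ q0 ∉ Cfsg.degreePrimes G := by
  classical
  haveI := Fintype.ofFinite G
  set F := Cfsg.fittingSubgroup G with hFdef
  haveI hFn : F.Normal := Cores.fittingSubgroup_normal
  have hpp : p.Prime := Fact.out
  obtain ⟨y, hy⟩ := exists_prime_orderOf_dvd_card' (G := G) p hp
  by_cases hpF : p ∣ Nat.card F
  · left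
    obtain ⟨P⟩ : Nonempty (Sylow p F) := inferInstance
    haveI := fitting_sylow p P
    set P' := (P : Subgroup F).map F.subtype
    have hP : Nat.card P' = p := by
      obtain ⟨k, hk⟩ := IsPGroup.iff_card.1 P.isPGroup'
      have hk' : Nat.card P' = p ^ k := (card_map_of_injective F.subtype_injective).trans hk
      have h1 : p ∣ p ^ k := hk ▸ P.dvd_card_of_dvd_card hpF
      have h2 : p ^ k ∣ Nat.card G := hk' ▸ card_subgroup_dvd_card P'
      match k with
      | 0 => rw [pow_zero, Nat.dvd_one] at h1; exact absurd h1 hpp.one_lt.ne'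
      | 1 => rwa [pow_one] at hk'
      | k + 2 => exact absurd ((Nat.pow_dvd_pow p (by omega)).trans h2) hp2
    refine not_vertex_of_abelian P' ?_ ?_
    · haveI : IsCyclic P' := isCyclic_of_prime_card hP
      letI := IsCyclic.commGroup (α := P')
      exact fun a ha b hb => congrArg Subtype.val (mul_comm (⟨a, ha⟩ : P') ⟨b, hb⟩)
    · intro hd
      apply hp2
      rw [← card_mul_index P', hP, sq]
      exact Nat.mul_dvd_mul_left p hd
  · right
    have hyF : y ∉ F := fun h => hpF (by
      have := orderOf_dvd_natCard (⟨y, h⟩ : F)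
      rwa [Subgroup.orderOf_mk, hy] at this)
    -- a Sylow subgroup of the Fitting subgroup moved by `y`
    obtain ⟨q, hqP, R, hR⟩ : ∃ (q : ℕ) (_ : Fact q.Prime) (R : Sylow q F),
        ¬ (R : Subgroup F).map F.subtype ≤ centralizer ({y} : Set G) := by
      by_contra hno
      push Not at hno
      apply hyF
      apply Cores.centralizer_fittingSubgroup_le (G := G)
      set C := (centralizer ({y} : Set G)).subgroupOf F with hC
      suffices hCtop : C = ⊤ by
        refine mem_centralizer_iff.2 fun f hf => ?_
        have : (⟨f, hf⟩ : F) ∈ C := hCtop ▸ mem_top _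
        exact mem_centralizer_singleton_iff.1 this
      refine eq_top_of_card_eq _ (Nat.dvd_antisymm (card_subgroup_dvd_card _) ?_)
      refine (Nat.dvd_iff_prime_pow_dvd_dvd _ _).2 fun r k hr hd => ?_
      haveI := Fact.mk hr
      obtain ⟨R⟩ : Nonempty (Sylow r F) := inferInstance
      refine (R.pow_dvd_card_of_pow_dvd_card hd).trans (card_dvd_of_le ?_)
      intro x hx
      exact hno r inferInstance R (mem_map_of_mem F.subtype hx)
    haveI := hqP
    have hqpr : q.Prime := hqP.out
    haveI := fitting_sylow q R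
    set R' := (R : Subgroup F).map F.subtype
    have hRF : R' ≤ F := map_subtype_le _
    obtain ⟨f, hf⟩ := IsPGroup.iff_card.1 R.isPGroup'
    have hR' : Nat.card R' = q ^ f := (card_map_of_injective F.subtype_injective).trans hf
    have hyn : ∀ H : Subgroup G, H.Normal → y ∈ normalizer (H : Set G) := fun H _ => by
      rw [normalizer_eq_top]; exact mem_top _
    have hqp : q ≠ p := by
      intro e
      subst e
      apply hR
      have : f = 0 := by
        by_contra h0
        exact hpF ((dvd_pow_self q h0).trans (hR' ▸ card_dvd_of_le hRF))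
      rw [this, pow_zero] at hR'
      rw [eq_bot_of_card_eq _ hR']
      exact bot_le
    -- `R'` is a full Sylow subgroup
    obtain ⟨c, hcf, hcard, hmod⟩ := (pgroup_fixed hy hqpr hqp R' (hyn R' inferInstance) hR').resolve_left hR
    have hdvd : q ^ f ∣ Nat.card G := hR' ▸ card_subgroup_dvd_card R'
    obtain ⟨hq0, hfull⟩ := hq q (f - c) hqpr hqp (by omega)
      ((pow_dvd_pow q (Nat.sub_le f c)).trans hdvd) hmod
    subst hq0
    have hc0 : c = 0 := by
      by_contra h0
      exact hfull ((pow_dvd_pow q (by omega)).trans hdvd)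
    subst hc0
    rw [Nat.sub_zero] at hfull hmod
    -- it is abelian
    have hab : ∀ a ∈ R', ∀ b ∈ R', a * b = b * a := by
      set Z := (center R').map R'.subtype
      haveI : Z.Normal := ConjAct.normal_of_characteristic_of_normal
      haveI : Nontrivial R' := by
        rw [← Finite.one_lt_card_iff_nontrivial, hR']
        exact Nat.one_lt_pow (by omega) hqpr.one_lt
      have hRp : IsPGroup q R' := IsPGroup.of_card hR'
      haveI := hRp.center_nontrivial
      have hZR : Z ≤ R' := map_subtype_le _
      obtain ⟨z, hzf, hz⟩ := (Nat.dvd_prime_pow hqpr).1 (hR' ▸ card_dvd_of_le hZR)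
      have hz0 : z ≠ 0 := by
        intro e
        rw [e, pow_zero, card_map_of_injective R'.subtype_injective] at hz
        exact (Finite.one_lt_card (α := center R')).ne' hz
      have hzf' : z = f := by
        rcases pgroup_fixed hy hqpr hqp Z (hyn Z inferInstance) hz with h | ⟨c', hc', hcard', hmod'⟩
        · exfalso
          have h1 : Z ≤ R' ⊓ centralizer ({y} : Set G) := le_inf hZR h
          have := Nat.le_of_dvd Nat.card_pos (card_dvd_of_le h1)
          rw [hcard, hz, pow_zero] at this
          exact absurd this (not_le.2 (Nat.one_lt_pow hz0 hqpr.one_lt))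
        · by_contra hne
          obtain ⟨-, hfull'⟩ := hq q (z - c') hqpr hqp (by omega)
            ((pow_dvd_pow q (by omega)).trans hdvd) hmod'
          exact hfull' ((pow_dvd_pow q (by omega)).trans hdvd)
      have hZe : Z = R' := eq_of_le_of_card_ge hZR (by rw [hz, hR', hzf'])
      intro a ha b hb
      rw [← hZe] at ha
      obtain ⟨a', ha', rfl⟩ := ha
      exact congrArg Subtype.val (mem_center_iff.1 ha' (⟨b, hb⟩ : R')).symm
    refine not_vertex_of_abelian R' hab ?_
    intro hd
    apply hfull
    rw [pow_succ, ← card_mul_index R', hR']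
    exact Nat.mul_dvd_mul_left _ hd

end Cfsg.Agent.SmallSimple.DegreeGraph6000
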