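import Cfsg.Agent.Lib.Cores.Fitting

/-!
# Fixed points of an element of prime order on subgroups and on Sylow subgroups
-/

set_option autoImplicit false
set_option linter.style.haveILetI false

namespace Cfsg.Agent.SmallSimple.DegreeGraph6000

open Subgroup

variable {G : Type*} [Group G] [Finite G] {p : ℕ} [Fact p.Prime]

/-- An element of order `p` normalising a subgroup fixes a number of its points congruent to the order. -/
theorem fixed_modEq {y : G} (hy : orderOf y = p) (H : Subgroup G)
    (hH : y ∈ normalizer (H : Set G)) :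
    Nat.card H ≡ Nat.card ↥(H ⊓ centralizer ({y} : Set G)) [MOD p] := by
  have hle : zpowers y ≤ normalizer (H : Set G) := (zpowers_le).2 hH
  letI : MulAction (zpowers y) H :=
    { smul := fun g x => ⟨(g : G) * x * (g : G)⁻¹, (Subgroup.mem_normalizer_iff.1 (hle g.2) x).1 x.2⟩
      one_smul := fun x => Subtype.ext (by show (1 : G) * x * (1 : G)⁻¹ = x; simp)
      mul_smul := fun g g' x => Subtype.ext (by
        show ((g : G) * g') * x * ((g : G) * g')⁻¹ = g * (g' * x * (g' : G)⁻¹) * (g : G)⁻¹
        group) }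
  have hp : IsPGroup p (zpowers y) := IsPGroup.of_card (n := 1) (by rw [Nat.card_zpowers, hy, pow_one])
  have hfix : Nat.card (MulAction.fixedPoints (zpowers y) H) =
      Nat.card ↥(H ⊓ centralizer ({y} : Set G)) := by
    refine Nat.card_congr
      { toFun := fun x => ⟨x.1.1, x.1.2, ?_⟩
        invFun := fun x => ⟨⟨x.1, x.2.1⟩, ?_⟩
        left_inv := fun x => rfl
        right_inv := fun x => rfl }
    · refine mem_centralizer_singleton_iff.2 ?_
      have h := congrArg Subtype.val (x.2 ⟨y, mem_zpowers y⟩)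
      exact (mul_inv_eq_iff_eq_mul.1 h).symm
    · rintro ⟨g, hg⟩
      refine Subtype.ext ?_
      show g * x.1 * g⁻¹ = x.1
      obtain ⟨k, rfl⟩ := mem_zpowers_iff.1 hg
      have hc : Commute y x.1 := (mem_centralizer_singleton_iff.1 x.2.2).symm
      rw [(hc.zpow_left k).eq, mul_inv_cancel_right]
  rw [← hfix]
  exact hp.card_modEq_card_fixedPoints H

/-- An element of order `p` either centralises a `q`-subgroup it normalises or moves it freely. -/
theorem pgroup_fixed {y : G} (hy : orderOf y = p) {q : ℕ} (hq : q.Prime) (hqp : q ≠ p)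
    (H : Subgroup G) (hH : y ∈ normalizer (H : Set G)) {f : ℕ} (hf : Nat.card H = q ^ f) :
    H ≤ centralizer ({y} : Set G) ∨
      ∃ c, c < f ∧ Nat.card ↥(H ⊓ centralizer ({y} : Set G)) = q ^ c ∧
        q ^ (f - c) ≡ 1 [MOD p] := by
  obtain ⟨c, hcf, hc⟩ := (Nat.dvd_prime_pow hq).1
    (hf ▸ card_dvd_of_le (inf_le_left : H ⊓ centralizer ({y} : Set G) ≤ H))
  rcases eq_or_lt_of_le hcf with rfl | hlt
  · exact Or.inl (inf_eq_left.1 (eq_of_le_of_card_ge inf_le_left (by rw [hf, hc])))
  · refine Or.inr ⟨c, hlt, hc, ?_⟩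
    have h := fixed_modEq hy H hH
    rw [hf, hc, show q ^ f = q ^ c * q ^ (f - c) by rw [← pow_add]; congr 1; omega] at h
    have hcop : Nat.Coprime p (q ^ c) :=
      Nat.Coprime.pow_right c ((Nat.coprime_primes Fact.out hq).2 hqp.symm)
    exact Nat.ModEq.cancel_left_of_coprime (c := q ^ c) hcop (by rwa [mul_one])

/-- An element of order `p` centralises a full `q`-part of a normal subgroup of order prime to `p`
when no power of `q` dividing that order is congruent to one. -/
theorem dvd_card_centralizer {y : G} (hy : orderOf y = p) (M : Subgroup G) [M.Normal]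
    (hpM : ¬ p ∣ Nat.card M) {q : ℕ} (hq : q.Prime) {k : ℕ} (hk : q ^ k ∣ Nat.card M)
    (hcond : ∀ a, 1 ≤ a → q ^ a ∣ Nat.card M → ¬ q ^ a ≡ 1 [MOD p]) :
    q ^ k ∣ Nat.card ↥(M ⊓ centralizer ({y} : Set G)) := by
  rcases Nat.eq_zero_or_pos k with rfl | hkpos
  · simp
  haveI : Fact q.Prime := ⟨hq⟩
  have hqp : q ≠ p := fun e => hpM (e ▸ (dvd_pow_self q hkpos.ne').trans hk)
  have hp : IsPGroup p (zpowers y) := IsPGroup.of_card (n := 1) (by rw [Nat.card_zpowers, hy, pow_one])
  let φ : zpowers y →* MulAut M := (MulAut.conjNormal (H := M)).comp (zpowers y).subtype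
  letI : MulAction (zpowers y) (Sylow q M) := MulAction.compHom _ φ
  have hn : ¬ p ∣ Nat.card (Sylow q M) := fun h =>
    hpM (h.trans ((Sylow.card_eq_index_normalizer (default : Sylow q M)).symm ▸
      Subgroup.index_dvd_card _))
  obtain ⟨P, hP⟩ := hp.nonempty_fixed_point_of_prime_not_dvd_card (Sylow q M) hn
  set R : Subgroup G := (P : Subgroup M).map M.subtype
  have hyP : (MulAut.conjNormal (H := M) y) • P = P := hP (⟨y, mem_zpowers y⟩ : zpowers y)
  have hR : y ∈ normalizer (R : Set G) := by
    refine (mem_normalizer_fintype (fun x hx => ?_))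
    obtain ⟨m, hm, rfl⟩ := hx
    refine ⟨MulAut.conjNormal y m, ?_, MulAut.conjNormal_apply y m⟩
    rw [← hyP]
    exact Subgroup.smul_mem_pointwise_smul m (MulAut.conjNormal (H := M) y) (P : Subgroup M) hm
  obtain ⟨f, hf⟩ := IsPGroup.iff_card.1 P.isPGroup'
  have hRf : Nat.card R = q ^ f := (card_map_of_injective M.subtype_injective).trans hf
  have hRM : R ≤ M := map_subtype_le _
  have hkR : q ^ k ∣ Nat.card R := by
    rw [card_map_of_injective M.subtype_injective]
    exact P.pow_dvd_card_of_pow_dvd_card hk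
  rcases pgroup_fixed hy hq hqp R hR hRf with h | ⟨c, hcf, -, hmod⟩
  · exact hkR.trans (card_dvd_of_le (le_inf hRM h))
  · exact absurd hmod (hcond (f - c) (by omega)
      ((pow_dvd_pow q (Nat.sub_le f c)).trans (hRf ▸ card_dvd_of_le hRM)))

end Cfsg.Agent.SmallSimple.DegreeGraph6000
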