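import Cfsg.Agent.Lib.SmallSimple.DegreeGraph6000.Degrees
import Cfsg.Agent.Lib.SmallSimple.DegreeGraph6000.Coprime
import Cfsg.Agent.Lib.SmallSimple.AltEightSubgroups

/-!
# No group of order 504 with a composition factor of order 168 has the graph of `L₂(8)`
-/

set_option autoImplicit false
set_option linter.style.haveILetI false

namespace Cfsg.Agent.SmallSimple.DegreeGraph6000

open Subgroup MulAction

/-- No group of order 504 has a self-centralising normal simple subgroup of order 168. -/
theorem false_of_ext_168 {H : Type*} [Group H] [Finite H] (hH : Nat.card H = 504) (M : Subgroup H)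
    [M.Normal] [IsSimpleGroup M] (hM : Nat.card M = 168)
    (hC : centralizer (M : Set H) = ⊥) : False := by
  haveI : Fact (Nat.Prime 7) := ⟨by norm_num⟩
  haveI : Fact (Nat.Prime 3) := ⟨Nat.prime_three⟩
  have hGM : ¬ IsMulCommutative M := Basic.not_comm_of_not_prime (by rw [hM]; norm_num)
  have hidx : M.index = 3 := by
    have := card_mul_index M
    rw [hM, hH] at this
    omega
  have hn : Nat.card (Sylow 7 H) = 8 := by
    rw [AltEightSubgroups.card_sylow_of_normal M (by rw [hidx]; norm_num)]
    obtain ⟨h1, h2, h3, -⟩ := Basic.sylow_count (p := 7) hGM (by rw [hM]; norm_num) (a := 1) (m := 24)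
      (by rw [hM]; norm_num) (by norm_num)
    have hle := Nat.le_of_dvd (by norm_num) h1
    generalize Nat.card (Sylow 7 M) = n at h1 h2 h3 hle
    interval_cases n <;> first | rfl | (revert h1 h2; decide)
  obtain ⟨P⟩ : Nonempty (Sylow 7 H) := inferInstance
  have hP : Nat.card (P : Subgroup H) = 7 := by
    have := Basic.card_sylow_eq_pow (p := 7) (a := 1) (m := 72) (by rw [hH]; norm_num) (by norm_num) P
    simpa using this
  haveI hPcyc : IsCyclic (P : Subgroup H) := isCyclic_of_prime_card hP
  set N := normalizer ((P : Subgroup H) : Set H)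
  have hN : Nat.card N = 63 := by
    have := Basic.card_normalizer_mul P
    rw [hn, hH] at this
    change Nat.card N * 8 = 504 at this
    omega
  -- an element of order three centralising `P`
  obtain ⟨y, hy, hyP⟩ : ∃ y : H, orderOf y = 3 ∧ ∀ x ∈ (P : Subgroup H), x * y = y * x := by
    let φ : N →* MulAut (P : Subgroup H) :=
      (Subgroup.normalizerMonoidHom (P : Subgroup H))
    have h1 := φ.ker.card_mul_index
    rw [hN, Subgroup.index_ker] at h1
    have h2 : Nat.card φ.range ∣ 6 := by
      refine (card_subgroup_dvd_card φ.range).trans ?_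
      rw [IsCyclic.card_mulAut (G := (P : Subgroup H)), hP, Nat.totient_prime (by norm_num)]
    have h3 : 3 ∣ Nat.card φ.ker := by
      have hle := Nat.le_of_dvd (by norm_num) h2
      generalize Nat.card φ.range = r at h1 h2 hle
      interval_cases r <;> omega
    haveI := Fintype.ofFinite φ.ker
    obtain ⟨z, hz⟩ := exists_prime_orderOf_dvd_card' (G := φ.ker) 3 h3
    refine ⟨((z : N) : H), by rw [orderOf_coe, orderOf_coe, hz], fun x hx => ?_⟩
    have h4 := DFunLike.congr_fun (MonoidHom.mem_ker.1 z.2) (⟨x, hx⟩ : (P : Subgroup H))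
    have h5 : ((z : N) : H) * x * ((z : N) : H)⁻¹ = x := congrArg Subtype.val h4
    exact (mul_inv_eq_iff_eq_mul.1 h5).symm
  have hfixP : y • P = P := Sylow.smul_eq_iff_mem_normalizer.2 (mem_normalizer_fintype fun x hx => by
    rw [← hyP x hx, mul_inv_cancel_right]; exact hx)
  -- `y` fixes a second Sylow subgroup
  obtain ⟨Q, hQP, hyQ⟩ : ∃ Q : Sylow 7 H, Q ≠ P ∧ y • Q = Q := by
    by_contra hno
    push Not at hno
    have hp : IsPGroup 3 (zpowers y) := IsPGroup.of_card (n := 1) (by rw [Nat.card_zpowers, hy, pow_one])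
    have hmod := hp.card_modEq_card_fixedPoints (Sylow 7 H)
    have he : fixedPoints (zpowers y) (Sylow 7 H) = {P} := by
      refine Set.eq_singleton_iff_unique_mem.2 ⟨?_, fun Q hQ => ?_⟩
      · rintro ⟨g, hg⟩
        obtain ⟨k, rfl⟩ := mem_zpowers_iff.1 hg
        show y ^ k • P = P
        have : y ∈ stabilizer H P := hfixP
        exact (stabilizer H P).zpow_mem this k
      · by_contra hne
        exact hno Q hne (hQ ⟨y, mem_zpowers y⟩)
    rw [he, hn, Nat.card_eq_one_iff_unique.2 ⟨inferInstance, ⟨⟨P, rfl⟩⟩⟩] at hmod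
    exact absurd hmod (by decide)
  -- hence all of them
  have hall : ∀ R : Sylow 7 H, y • R = R := by
    haveI := Fintype.ofFinite (Sylow 7 H)
    intro R
    by_cases hR : R = P
    · rw [hR]; exact hfixP
    have horb : orbit (P : Subgroup H) Q = {S | S ≠ P} := by
      refine Set.eq_of_subset_of_ncard_le ?_ ?_ (Set.toFinite _)
      · rintro _ ⟨x, rfl⟩ e
        apply hQP
        have hx : (x : H) • P = P :=
          Sylow.smul_eq_iff_mem_normalizer.2 (le_normalizer x.2)
        exact MulAction.injective (x : H) ((e : (x : H) • Q = P).trans hx.symm)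
      · have hs : stabilizer (P : Subgroup H) Q = ⊥ := by
          haveI : Fact (Nat.card (P : Subgroup H)).Prime := ⟨by rw [hP]; norm_num⟩
          rcases (stabilizer (P : Subgroup H) Q).eq_bot_or_eq_top_of_prime_card with h | h
          · exact h
          · exfalso
            apply hQP
            have hle : (P : Subgroup H) ≤ (Q : Subgroup H) := by
              refine (P.isPGroup'.sylow_mem_fixedPoints_iff).1 fun x => ?_
              have : x ∈ stabilizer (P : Subgroup H) Q := h ▸ mem_top x
              exact this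
            exact (Sylow.ext (P.3 Q.isPGroup' hle))
        have h1 := Nat.card_congr (orbitEquivQuotientStabilizer (P : Subgroup H) Q)
        rw [hs, Nat.card_congr (QuotientGroup.quotientBot (G := (P : Subgroup H))).toEquiv, hP,
          Nat.card_coe_set_eq] at h1
        rw [h1]
        have h2 : ({S : Sylow 7 H | S ≠ P}) = ({P} : Set (Sylow 7 H))ᶜ := rfl
        rw [h2, Set.ncard_compl, Set.ncard_singleton, hn]
    obtain ⟨x, rfl⟩ : R ∈ orbit (P : Subgroup H) Q := horb ▸ hR
    show y • ((x : H) • Q) = (x : H) • Q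
    rw [smul_smul, ← hyP x x.2, mul_smul, hyQ]
  -- the kernel of the action is trivial
  set K := (MulAction.toPermHom H (Sylow 7 H)).ker
  have hKM : K ⊓ M = ⊥ := by
    rcases (inferInstance : (K.subgroupOf M).Normal).eq_bot_or_eq_top with h | h
    · exact disjoint_iff.1 (subgroupOf_eq_bot.1 h)
    · exfalso
      have hMN : M ≤ N := fun m hm => Sylow.smul_eq_iff_mem_normalizer.1
        (Equiv.Perm.congr_fun (MonoidHom.mem_ker.1 (subgroupOf_eq_top.1 h hm)) P)
      have := Nat.le_of_dvd (Nat.card_pos) (card_dvd_of_le hMN)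
      omega
  have hy1 : y ∈ centralizer (M : Set H) := by
    have hyK : y ∈ K := MonoidHom.mem_ker.2 (Equiv.ext hall)
    refine mem_centralizer_iff.2 fun m hm => ?_
    exact (Subgroup.commute_of_normal_of_disjoint K M inferInstance inferInstance
      (disjoint_iff.2 hKM) y m hyK hm).symm.eq
  rw [hC, mem_bot] at hy1
  rw [hy1, orderOf_one] at hy
  omega

/-- Over a radical, the group of order 504 gets the degree six. -/
theorem adj_of_504 {G : Type*} [Group G] [Finite G] (hG : Nat.card G = 504) (R : Subgroup G)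
    [R.Normal] (M : Subgroup (G ⧸ R)) [M.Normal] [IsSimpleGroup M] (hM : Nat.card M = 168)
    (hC : centralizer (M : Set (G ⧸ R)) = ⊥) : (Cfsg.degreeGraph G).Adj 2 3 := by
  have h1 := card_eq_card_quotient_mul_card_subgroup R
  have h2 : 168 ∣ Nat.card (G ⧸ R) := hM ▸ card_subgroup_dvd_card M
  obtain ⟨c, hc⟩ := h2
  rw [hG, hc, mul_assoc] at h1
  have hc3 : c * Nat.card R = 3 := by omega
  rcases (Nat.dvd_prime Nat.prime_three).1 ⟨Nat.card R, hc3.symm⟩ with e | e
  · have hQ : Nat.card (G ⧸ R) = 168 := by rw [hc, e]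
    have hMtop : M = ⊤ := eq_top_of_card_eq M (by rw [hM, hQ])
    haveI : IsSimpleGroup (G ⧸ R) :=
      (MulEquiv.isSimpleGroup_congr ((MulEquiv.subgroupCongr hMtop).trans topEquiv)).1 inferInstance
    obtain ⟨-, -, -, h6⟩ := degSet (q := 7) hQ (by simp)
    refine ⟨by norm_num, Nat.prime_two, Nat.prime_three, 7 - 1, ?_, by norm_num⟩
    exact BlocksChars.SL2Degrees.charDegrees_subset_of_surjective (QuotientGroup.mk' R)
      (QuotientGroup.mk'_surjective R) h6
  · exact (false_of_ext_168 (H := G ⧸ R) (by rw [hc, e]) M hM hC).elim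

end Cfsg.Agent.SmallSimple.DegreeGraph6000
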