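import Cfsg.Agent.Lib.SmallSimple.DegreeGraph6000.Coprime
import Cfsg.Agent.Lib.SmallSimple.Basic

/-!
# Elements of certain prime orders centralise the simple normal subgroup
-/

set_option autoImplicit false
set_option linter.style.haveILetI false

namespace Cfsg.Agent.SmallSimple.DegreeGraph6000

open Subgroup

/-- A simple group of order 360 has no proper subgroup of order divisible by 45. -/
theorem eq_top_of_forty_five {M : Type*} [Group M] [Finite M] [IsSimpleGroup M]
    (hM : Nat.card M = 360) (L : Subgroup M) (hL : 45 ∣ Nat.card L) : L = ⊤ := by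
  have hG : ¬ IsMulCommutative M := Basic.not_comm_of_not_prime (by rw [hM]; norm_num)
  by_contra hne
  haveI : Fact (Nat.Prime 5) := ⟨by norm_num⟩
  have h1 := Basic.two_mul_card_dvd_factorial hG L hne
  have h2 := card_mul_index L
  obtain ⟨c, hc⟩ := hL
  rw [hM, hc, mul_assoc] at h2
  rw [hM] at h1
  have h8 : c * L.index = 8 := by omega
  have hidx : L.index ∣ 8 := ⟨c, by rw [mul_comm] at h8; exact h8.symm⟩
  have hle : L.index ≤ 8 := Nat.le_of_dvd (by norm_num) hidx
  have hi : L.index = 8 := by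
    generalize L.index = i at h1 hidx hle
    interval_cases i <;> first | rfl | (revert h1 hidx; decide)
  have hL45 : Nat.card L = 45 := by rw [hi] at h8; omega
  obtain ⟨P⟩ : Nonempty (Sylow 5 L) := inferInstance
  have hPL : Nat.card (P : Subgroup L) = 5 := by
    have := Basic.card_sylow_eq_pow (p := 5) (a := 1) (m := 9) (by rw [hL45]; norm_num) (by norm_num) P
    simpa using this
  have hn : Nat.card (Sylow 5 L) = 1 := by
    have h3 := P.card_dvd_index
    have h4 := card_mul_index (P : Subgroup L)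
    rw [hPL, hL45] at h4
    rw [show (P : Subgroup L).index = 9 by omega] at h3
    have h5 := card_sylow_modEq_one 5 L
    have hle9 := Nat.le_of_dvd (by norm_num) h3
    rw [Nat.ModEq] at h5
    generalize Nat.card (Sylow 5 L) = n at h3 h5 hle9
    interval_cases n <;> revert h3 h5 <;> decide
  haveI : Subsingleton (Sylow 5 L) := (Nat.card_eq_one_iff_unique.1 hn).1
  haveI hPn : (P : Subgroup L).Normal := Sylow.normal_of_subsingleton P
  set P' := (P : Subgroup L).map L.subtype
  have hP' : Nat.card P' = 5 := (card_map_of_injective L.subtype_injective).trans hPL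
  obtain ⟨Q, hQ⟩ := (IsPGroup.of_card (n := 1) (by rw [hP']; norm_num) :
    IsPGroup 5 P').exists_le_sylow
  have hQ5 : Nat.card (Q : Subgroup M) = 5 := by
    have := Basic.card_sylow_eq_pow (p := 5) (a := 1) (m := 72) (by rw [hM]; norm_num) (by norm_num) Q
    simpa using this
  have he : P' = (Q : Subgroup M) := eq_of_le_of_card_ge hQ (by rw [hP', hQ5])
  have hLN : L ≤ normalizer ((Q : Subgroup M) : Set M) := by
    rw [← he]
    intro x hx
    refine mem_normalizer_fintype fun a ha => ?_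
    obtain ⟨b, hb, rfl⟩ := ha
    exact ⟨(⟨x, hx⟩ : L) * b * (⟨x, hx⟩ : L)⁻¹, hPn.conj_mem b hb _, rfl⟩
  have hm := Basic.card_normalizer_mul Q
  obtain ⟨d, hd⟩ := card_dvd_of_le hLN
  rw [hd, hL45, hM, mul_assoc] at hm
  have h6 : Nat.card (Sylow 5 M) ∣ 8 := ⟨d, by rw [mul_comm]; omega⟩
  have h7 := card_sylow_modEq_one 5 M
  have h8' := Basic.one_lt_card_sylow (p := 5) hG (by rw [hM]; norm_num)
  have hle8 := Nat.le_of_dvd (by norm_num) h6
  rw [Nat.ModEq] at h7
  generalize Nat.card (Sylow 5 M) = n at h6 h7 h8' hle8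
  interval_cases n <;> revert h6 h7 <;> decide

variable {H : Type*} [Group H] [Finite H]

theorem no_one_mod {q p t : ℕ} (h : ∀ a ∈ List.range t, 1 ≤ a → q ^ a ∣ t → q ^ a % p ≠ 1)
    (hq : 2 ≤ q) (ht : 0 < t) : ∀ a, 1 ≤ a → q ^ a ∣ t → ¬ q ^ a % p = 1 := by
  intro a ha hd
  refine h a (List.mem_range.2 ?_) ha hd
  exact lt_of_lt_of_le (lt_of_lt_of_le Nat.lt_two_pow_self (Nat.pow_le_pow_left hq a))
    (Nat.le_of_dvd ht hd)

/-- The cases in which every element of order `p` centralises a normal simple subgroup of order `t`. -/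
theorem centralized {p t : ℕ} [Fact p.Prime]
    (hpt : (t, p) ∈ [(60, 7), (60, 11), (60, 17), (60, 19), (168, 5), (504, 5), (360, 7)])
    (M : Subgroup H) [M.Normal] [IsSimpleGroup M] (hM : Nat.card M = t)
    (y : H) (hy : orderOf y = p) : M ≤ centralizer ({y} : Set H) := by
  have hpM : ¬ p ∣ Nat.card M := by
    rw [hM]
    simp only [List.mem_cons, Prod.mk.injEq, List.not_mem_nil, or_false] at hpt
    rcases hpt with ⟨rfl, rfl⟩ | ⟨rfl, rfl⟩ | ⟨rfl, rfl⟩ | ⟨rfl, rfl⟩ | ⟨rfl, rfl⟩ | ⟨rfl, rfl⟩ |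
      ⟨rfl, rfl⟩ <;> norm_num
  set C := M ⊓ centralizer ({y} : Set H)
  have key : ∀ q k, q.Prime → q ^ k ∣ t →
      (∀ a ∈ List.range t, 1 ≤ a → q ^ a ∣ t → q ^ a % p ≠ 1) → q ^ k ∣ Nat.card C := by
    intro q k hq hk hc
    refine dvd_card_centralizer hy M hpM hq (hM ▸ hk) fun a ha hd hmod => ?_
    refine no_one_mod hc hq.two_le (hM ▸ Nat.card_pos) a ha (hM ▸ hd) ?_
    rw [Nat.ModEq, Nat.one_mod_eq_one.2 (Nat.Prime.ne_one Fact.out)] at hmod
    exact hmod
  suffices hC : Nat.card C = t by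
    exact inf_eq_left.1 (eq_of_le_of_card_ge inf_le_left (by rw [hC, hM]))
  refine Nat.dvd_antisymm (hM ▸ card_dvd_of_le inf_le_left) ?_
  simp only [List.mem_cons, Prod.mk.injEq, List.not_mem_nil, or_false] at hpt
  rcases hpt with h | h | h | h | h | h | h
  case inr.inr.inr.inr.inr.inr =>
    obtain ⟨rfl, rfl⟩ := h
    have h9 := key 3 2 (by norm_num) (by norm_num) (by decide +kernel)
    have h5 := key 5 1 (by norm_num) (by norm_num) (by decide +kernel)
    have h45 : 45 ∣ Nat.card (C.subgroupOf M) := by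
      rw [Nat.card_congr (subgroupOfEquivOfLe (inf_le_left : C ≤ M)).toEquiv]
      exact Nat.Coprime.mul_dvd_of_dvd_of_dvd (by norm_num : Nat.Coprime 9 5) h9 h5
    have := eq_top_of_forty_five hM _ h45
    rw [subgroupOf_eq_top] at this
    exact hM ▸ card_dvd_of_le this
  all_goals obtain ⟨rfl, rfl⟩ := h
  case inl | inr.inl | inr.inr.inl | inr.inr.inr.inl =>
    have h4 := key 2 2 (by norm_num) (by norm_num) (by decide +kernel)
    have h3 := key 3 1 (by norm_num) (by norm_num) (by decide +kernel)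
    have h5 := key 5 1 (by norm_num) (by norm_num) (by decide +kernel)
    exact Nat.Coprime.mul_dvd_of_dvd_of_dvd (by norm_num : Nat.Coprime 12 5)
      (Nat.Coprime.mul_dvd_of_dvd_of_dvd (by norm_num : Nat.Coprime 4 3) h4 h3) h5
  · have h8 := key 2 3 (by norm_num) (by norm_num) (by decide +kernel)
    have h3 := key 3 1 (by norm_num) (by norm_num) (by decide +kernel)
    have h7 := key 7 1 (by norm_num) (by norm_num) (by decide +kernel)
    exact Nat.Coprime.mul_dvd_of_dvd_of_dvd (by norm_num : Nat.Coprime 24 7)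
      (Nat.Coprime.mul_dvd_of_dvd_of_dvd (by norm_num : Nat.Coprime 8 3) h8 h3) h7
  · have h8 := key 2 3 (by norm_num) (by norm_num) (by decide +kernel)
    have h9 := key 3 2 (by norm_num) (by norm_num) (by decide +kernel)
    have h7 := key 7 1 (by norm_num) (by norm_num) (by decide +kernel)
    exact Nat.Coprime.mul_dvd_of_dvd_of_dvd (by norm_num : Nat.Coprime 72 7)
      (Nat.Coprime.mul_dvd_of_dvd_of_dvd (by norm_num : Nat.Coprime 8 9) h8 h9) h7

end Cfsg.Agent.SmallSimple.DegreeGraph6000
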