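import Cfsg.Agent.Lib.SmallSimple.DegreeGraph6000.Orders
import Cfsg.Agent.BlocksChars.SL2DegreeGraph
import Cfsg.Agent.BlocksChars.AltVanish.Chars
import Cfsg.Agent.S0252
import Cfsg.Agent.S0254

/-!
# Vertices and edges of the degree graphs of the small simple groups
-/

set_option autoImplicit false
set_option linter.style.haveILetI false

namespace Cfsg.Agent.SmallSimple.DegreeGraph6000

open Cfsg.Agent.Characters Cfsg.Agent.BlocksChars

theorem charDegree_of_eq {G : Type*} [Group G] {χ : G → ℂ} {d : ℕ} (h : χ 1 = (d : ℂ)) :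
    Cfsg.charDegree χ = d := by
  rw [Cfsg.charDegree, h, Complex.natCast_re, Nat.floor_natCast]

theorem mem_charDegrees {G : Type*} [Group G] {χ : G → ℂ} {d : ℕ}
    (hχ : Cfsg.IsIrrCharacter G χ) (h : χ 1 = (d : ℂ)) : d ∈ Cfsg.charDegrees G :=
  ⟨⟨χ, hχ⟩, charDegree_of_eq h⟩

/-- The degree `(n - 1)(n - 2) / 2` of a four-transitive group. -/
theorem deg_chiC {G α : Type*} [Group G] [Finite G] [MulAction G α] [Fintype α] [DecidableEq α]
    (h4 : MulAction.IsMultiplyPretransitive G α 4) (hn : 4 ≤ Fintype.card α) {d : ℕ}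
    (hd : 2 * d + 3 * Fintype.card α = Fintype.card α ^ 2 + 2) : d ∈ Cfsg.charDegrees G := by
  haveI := Fintype.ofFinite G
  refine mem_charDegrees (AltVanish.isIrr_chiC h4 hn) ?_
  have h1 : (AltVanish.fixSet (α := α) (1 : G)) = Finset.univ := by
    ext x; simp [AltVanish.mem_fixSet]
  have h2 : (AltVanish.swapSet (α := α) (1 : G)) = ∅ := by ext x; simp [AltVanish.mem_swapSet]
  simp only [AltVanish.chiC, h1, h2, Finset.card_univ, Finset.card_empty, Nat.cast_zero, sub_zero]
  have hd' : (2 : ℂ) * d + 3 * Fintype.card α = (Fintype.card α : ℂ) ^ 2 + 2 := by exact_mod_cast hd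
  linear_combination -(1 / 2 : ℂ) * hd'

/-- The degree `n(n - 3) / 2` of a four-transitive group. -/
theorem deg_chiB {G α : Type*} [Group G] [Finite G] [MulAction G α] [Fintype α] [DecidableEq α]
    (h4 : MulAction.IsMultiplyPretransitive G α 4) (hn : 4 ≤ Fintype.card α) {d : ℕ}
    (hd : 2 * d + 3 * Fintype.card α = Fintype.card α ^ 2) : d ∈ Cfsg.charDegrees G := by
  haveI := Fintype.ofFinite G
  refine mem_charDegrees (AltVanish.isIrr_chiB h4 hn) ?_
  have h1 : (AltVanish.fixSet (α := α) (1 : G)) = Finset.univ := by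
    ext x; simp [AltVanish.mem_fixSet]
  have h2 : (AltVanish.swapSet (α := α) (1 : G)) = ∅ := by ext x; simp [AltVanish.mem_swapSet]
  simp only [AltVanish.chiB, h1, h2, Finset.card_univ, Finset.card_empty, Nat.cast_zero, add_zero]
  have hd' : (2 : ℂ) * d + 3 * Fintype.card α = (Fintype.card α : ℂ) ^ 2 := by exact_mod_cast hd
  linear_combination -(1 / 2 : ℂ) * hd'

theorem six_mem_perm_five : 6 ∈ Cfsg.charDegrees (Equiv.Perm (Fin 5)) :=
  deg_chiC (Equiv.Perm.isMultiplyPretransitive (Fin 5) 4) (by simp) (by simp)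

theorem alt_seven_degrees :
    14 ∈ Cfsg.charDegrees (alternatingGroup (Fin 7)) ∧
      15 ∈ Cfsg.charDegrees (alternatingGroup (Fin 7)) := by
  haveI h5 : MulAction.IsMultiplyPretransitive (alternatingGroup (Fin 7)) (Fin 7) 5 := by
    have := alternatingGroup.isMultiplyPretransitive (Fin 7)
    simpa using this
  have h4 : MulAction.IsMultiplyPretransitive (alternatingGroup (Fin 7)) (Fin 7) 4 :=
    MulAction.isMultiplyPretransitive_of_le (n := 5) (by norm_num) (by simp)
  exact ⟨deg_chiB h4 (by simp) (by simp), deg_chiC h4 (by simp) (by simp)⟩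

theorem degSet_sixty {S : Type*} [Group S] [Finite S] [IsSimpleGroup S] (h : Nat.card S = 60) :
    SL2DegreeGraph.DegSet (Cfsg.charDegrees S) 4 := by
  classical
  haveI : Fintype (GaloisField 2 2) := Fintype.ofFinite _
  have hF : Fintype.card (GaloisField 2 2) = 4 := by
    rw [← Nat.card_eq_fintype_card, GaloisField.card 2 2 (by norm_num)]; norm_num
  obtain ⟨e⟩ := S0252.result hF
  obtain ⟨f⟩ := S0494.result h
  have hD := SL2DegreeGraph.degSet_of_iso (F := GaloisField 2 2) (S := S) (by omega)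
    (fun h' => absurd h' (by rw [hF]; decide)) (Or.inl ⟨f.trans e.symm⟩)
  rwa [hF] at hD

/-- The simple groups of small order that are projective special linear of dimension two. -/
theorem degSet {S : Type*} [Group S] [Finite S] [IsSimpleGroup S] {n q : ℕ}
    (h : Nat.card S = n) (hnq : (n, q) ∈ [(60, 4), (168, 7), (360, 9), (504, 8), (660, 11),
      (1092, 13), (2448, 17), (3420, 19), (4080, 16)]) :
    SL2DegreeGraph.DegSet (Cfsg.charDegrees S) q := by
  classical
  haveI : Fact (Nat.Prime 7) := ⟨by norm_num⟩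
  haveI : Fact (Nat.Prime 11) := ⟨by norm_num⟩
  haveI : Fact (Nat.Prime 13) := ⟨by norm_num⟩
  haveI : Fact (Nat.Prime 17) := ⟨by norm_num⟩
  haveI : Fact (Nat.Prime 19) := ⟨by norm_num⟩
  haveI : Fact (Nat.Prime 3) := ⟨by norm_num⟩
  simp only [List.mem_cons, Prod.mk.injEq, List.not_mem_nil, or_false] at hnq
  rcases hnq with ⟨e, rfl⟩ | ⟨e, rfl⟩ | ⟨e, rfl⟩ | ⟨e, rfl⟩ | ⟨e, rfl⟩ | ⟨e, rfl⟩ | ⟨e, rfl⟩ |
    ⟨e, rfl⟩ | ⟨e, rfl⟩ <;> subst e
  · exact degSet_sixty h
  · have hD := SL2DegreeGraph.degSet_of_iso (F := ZMod 7) (S := S) (by simp) (by simp)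
      (Or.inl (S0495.result h (F := ZMod 7) (ZMod.card 7)))
    rwa [ZMod.card] at hD
  · haveI : Fintype (GaloisField 3 2) := Fintype.ofFinite _
    have hF : Fintype.card (GaloisField 3 2) = 9 := by
      rw [← Nat.card_eq_fintype_card, GaloisField.card 3 2 (by norm_num)]; norm_num
    obtain ⟨e⟩ := S0254.result hF
    obtain ⟨f⟩ := S0497.result h
    have hD := SL2DegreeGraph.degSet_of_iso (F := GaloisField 3 2) (S := S) (by omega)
      (fun _ => by omega) (Or.inl ⟨f.trans e.symm⟩)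
    rwa [hF] at hD
  · haveI : Fintype (GaloisField 2 3) := Fintype.ofFinite _
    have hF : Fintype.card (GaloisField 2 3) = 8 := by
      rw [← Nat.card_eq_fintype_card, GaloisField.card 2 3 (by norm_num)]; norm_num
    have hD := SL2DegreeGraph.degSet_of_iso (F := GaloisField 2 3) (S := S) (by omega)
      (fun h' => absurd h' (by rw [hF]; decide)) (Or.inl (S1011.result h hF))
    rwa [hF] at hD
  · have hD := SL2DegreeGraph.degSet_of_iso (F := ZMod 11) (S := S) (by simp) (by simp)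
      (Or.inl (S0498.result 11 (Or.inl rfl) (by rw [h]; norm_num) (F := ZMod 11) (ZMod.card 11)))
    rwa [ZMod.card] at hD
  · have hD := SL2DegreeGraph.degSet_of_iso (F := ZMod 13) (S := S) (by simp) (by simp)
      (Or.inl (S0498.result 13 (Or.inr rfl) (by rw [h]; norm_num) (F := ZMod 13) (ZMod.card 13)))
    rwa [ZMod.card] at hD
  · have hD := SL2DegreeGraph.degSet_of_iso (F := ZMod 17) (S := S) (by simp) (by simp)
      (Or.inl (S1020.result h (F := ZMod 17) (ZMod.card 17)))
    rwa [ZMod.card] at hD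
  · have hD := SL2DegreeGraph.degSet_of_iso (F := ZMod 19) (S := S) (by simp) (by simp)
      (Or.inl (S1021.result h (F := ZMod 19) (ZMod.card 19)))
    rwa [ZMod.card] at hD
  · haveI : Fintype (GaloisField 2 4) := Fintype.ofFinite _
    have hF : Fintype.card (GaloisField 2 4) = 16 := by
      rw [← Nat.card_eq_fintype_card, GaloisField.card 2 4 (by norm_num)]; norm_num
    have hD := SL2DegreeGraph.degSet_of_iso (F := GaloisField 2 4) (S := S) (by omega)
      (fun h' => absurd h' (by rw [hF]; decide)) (Or.inl (S0981.result h hF))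
    rwa [hF] at hD

theorem thirteen_dvd_some {S : Type*} [Group S] [Finite S] [IsSimpleGroup S]
    (h : Nat.card S = 5616) : 13 ∈ Cfsg.degreePrimes S ∧ 3 ∈ Cfsg.degreePrimes S := by
  classical
  haveI := Fintype.ofFinite S
  haveI := Fintype.ofFinite (Cfsg.IrrCharacter S)
  obtain ⟨B⟩ := Order5616.exists_block (G := S) h
  refine ⟨⟨by norm_num, ?_⟩, ⟨Nat.prime_three, 27, mem_charDegrees B.b.2 (by rw [B.deg_b]; simp),
    by norm_num⟩⟩
  by_contra hno
  push Not at hno
  have hsub : ∀ χ : Cfsg.IrrCharacter S,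
      χ ∈ ({trivIrr S, B.a, B.b} : Finset (Cfsg.IrrCharacter S)) ∪ Finset.univ.image B.μ := by
    intro χ
    simp only [Finset.mem_union, Finset.mem_insert, Finset.mem_singleton, Finset.mem_image,
      Finset.mem_univ, true_and]
    by_contra hχ
    push Not at hχ
    obtain ⟨⟨h1, h2, h3⟩, h4⟩ := hχ
    obtain ⟨m, hm⟩ := B.rest χ h1 h2 h3 h4
    exact hno _ (mem_charDegrees χ.2 hm) (dvd_mul_right 13 m)
  have hsum := sum_degree_sq (G := S)
  rw [h] at hsum
  have hnat : ∀ χ : Cfsg.IrrCharacter S,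
      (χ : S → ℂ) 1 ^ 2 = ((Cfsg.charDegree (χ : S → ℂ) ^ 2 : ℕ) : ℂ) := by
    intro χ
    rw [Nat.cast_pow, BlocksChars.Degrees.charDegree_cast]
  rw [Finset.sum_congr rfl (fun χ _ => hnat χ), ← Nat.cast_sum, Nat.cast_inj] at hsum
  set f := fun χ : Cfsg.IrrCharacter S => Cfsg.charDegree (χ : S → ℂ) ^ 2
  have hle : ∑ χ, f χ ≤ ∑ χ ∈ ({trivIrr S, B.a, B.b} : Finset (Cfsg.IrrCharacter S)), f χ +
      ∑ χ ∈ Finset.univ.image B.μ, f χ := by
    rw [← Finset.sum_union_inter]
    refine le_add_right (Finset.sum_le_sum_of_subset fun χ _ => hsub χ)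
  have h1 : ∑ χ ∈ Finset.univ.image B.μ, f χ ≤ 4 * 256 := by
    refine (Finset.sum_le_card_nsmul _ _ 256 ?_).trans ?_
    · intro χ hχ
      obtain ⟨i, -, rfl⟩ := Finset.mem_image.1 hχ
      simp only [f, charDegree_of_eq (χ := (B.μ i : S → ℂ)) (d := 16) (by rw [B.deg_μ]; simp)]
      norm_num
    · rw [smul_eq_mul]
      exact Nat.mul_le_mul_right _ (Finset.card_image_le.trans (by simp))
  have h2 : ∑ χ ∈ ({trivIrr S, B.a, B.b} : Finset (Cfsg.IrrCharacter S)), f χ ≤ 3 * 729 := by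
    refine (Finset.sum_le_card_nsmul _ _ 729 ?_).trans ?_
    · intro χ hχ
      simp only [Finset.mem_insert, Finset.mem_singleton] at hχ
      rcases hχ with rfl | rfl | rfl
      · simp only [f, charDegree_of_eq (χ := (trivIrr S : S → ℂ)) (d := 1) (by simp [trivIrr])]
        norm_num
      · simp only [f, charDegree_of_eq (χ := (B.a : S → ℂ)) (d := 12) (by rw [B.deg_a]; simp)]
        norm_num
      · simp only [f, charDegree_of_eq (χ := (B.b : S → ℂ)) (d := 27) (by rw [B.deg_b]; simp)]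
        norm_num
    · rw [smul_eq_mul]
      exact Nat.mul_le_mul_right _ Finset.card_le_three
  change ∑ χ, f χ = 5616 at hsum
  omega

/-- The vertices that are needed. -/
theorem vertex {S : Type*} [Group S] [Finite S] [IsSimpleGroup S] {n p : ℕ} (h : Nat.card S = n)
    (hnp : (n, p) ∈ [(60, 5), (168, 7), (168, 2), (360, 5), (504, 7), (504, 2), (660, 11),
      (1092, 13), (2448, 17), (2520, 7), (2520, 5), (2520, 2), (3420, 19), (4080, 17), (5616, 13),
      (5616, 3)]) : p ∈ Cfsg.degreePrimes S := by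
  have key : ∀ q : ℕ, SL2DegreeGraph.DegSet (Cfsg.charDegrees S) q → p.Prime →
      p ∣ q * (q ^ 2 - 1) → p ∈ Cfsg.degreePrimes S := by
    intro q hD hp hpd
    rw [SL2DegreeGraph.degreePrimes_eq hD]
    exact ⟨hp, hpd⟩
  simp only [List.mem_cons, Prod.mk.injEq, List.not_mem_nil, or_false] at hnp
  rcases hnp with ⟨rfl, rfl⟩ | ⟨rfl, rfl⟩ | ⟨rfl, rfl⟩ | ⟨rfl, rfl⟩ | ⟨rfl, rfl⟩ | ⟨rfl, rfl⟩ |
    ⟨rfl, rfl⟩ | ⟨rfl, rfl⟩ | ⟨rfl, rfl⟩ | ⟨rfl, rfl⟩ | ⟨rfl, rfl⟩ | ⟨rfl, rfl⟩ | ⟨rfl, rfl⟩ |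
    ⟨rfl, rfl⟩ | ⟨rfl, rfl⟩ | ⟨rfl, rfl⟩
  · exact key 4 (degSet h (by simp)) (by norm_num) (by norm_num)
  · exact key 7 (degSet h (by simp)) (by norm_num) (by norm_num)
  · exact key 7 (degSet h (by simp)) (by norm_num) (by norm_num)
  · exact key 9 (degSet h (by simp)) (by norm_num) (by norm_num)
  · exact key 8 (degSet h (by simp)) (by norm_num) (by norm_num)
  · exact key 8 (degSet h (by simp)) (by norm_num) (by norm_num)
  · exact key 11 (degSet h (by simp)) (by norm_num) (by norm_num)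
  · exact key 13 (degSet h (by simp)) (by norm_num) (by norm_num)
  · exact key 17 (degSet h (by simp)) (by norm_num) (by norm_num)
  · obtain ⟨e⟩ := S0984.result h
    exact ⟨by norm_num, 14, (SL2Degrees.charDegrees_congr e).symm ▸ alt_seven_degrees.1, by norm_num⟩
  · obtain ⟨e⟩ := S0984.result h
    exact ⟨by norm_num, 15, (SL2Degrees.charDegrees_congr e).symm ▸ alt_seven_degrees.2, by norm_num⟩
  · obtain ⟨e⟩ := S0984.result h
    exact ⟨by norm_num, 14, (SL2Degrees.charDegrees_congr e).symm ▸ alt_seven_degrees.1, by norm_num⟩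
  · exact key 19 (degSet h (by simp)) (by norm_num) (by norm_num)
  · exact key 16 (degSet h (by simp)) (by norm_num) (by norm_num)
  · exact (thirteen_dvd_some h).1
  · exact (thirteen_dvd_some h).2

theorem no_edge_504 {S : Type*} [Group S] [Finite S] [IsSimpleGroup S] (h : Nat.card S = 504) :
    ¬ (Cfsg.degreeGraph S).Adj 2 3 := by
  rw [SL2DegreeGraph.adj_iff Nat.prime_two (show (8 : ℕ) = 2 ^ 3 by norm_num) (degSet h (by simp))]
  norm_num

theorem edges_360 {S : Type*} [Group S] [Finite S] [IsSimpleGroup S] (h : Nat.card S = 360) :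
    ¬ (Cfsg.degreeGraph S).Adj 2 3 ∧ (Cfsg.degreeGraph S).Adj 2 5 := by
  rw [SL2DegreeGraph.adj_iff Nat.prime_three (show (9 : ℕ) = 3 ^ 2 by norm_num) (degSet h (by simp)),
    SL2DegreeGraph.adj_iff Nat.prime_three (show (9 : ℕ) = 3 ^ 2 by norm_num) (degSet h (by simp))]
  norm_num

end Cfsg.Agent.SmallSimple.DegreeGraph6000
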