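import Cfsg.Agent.Lib.SmallSimple.DegreeGraph6000.Degrees
import Cfsg.Agent.Lib.Characters.CentralIndex

/-!
# Groups of order 360 with a composition factor of order 60
-/

set_option autoImplicit false
set_option linter.style.haveILetI false

namespace Cfsg.Agent.SmallSimple.DegreeGraph6000

open Subgroup
open Cfsg.Agent.Characters
open scoped ComplexConjugate commutatorElement

/-- The square of a degree is at most the index of the centre. -/
theorem sq_degree_le_center_index {G : Type*} [Group G] [Finite G] {χ : G → ℂ}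
    (hχ : Cfsg.IsIrrCharacter G χ) {d : ℕ} (hd : χ 1 = (d : ℂ)) :
    d ^ 2 ≤ (center G).index := by
  classical
  haveI := Fintype.ofFinite G
  have hnorm := classInner_isIrr_self hχ
  obtain ⟨m, ρ, hρ, rfl⟩ := hχ
  rw [classInner_def, inv_mul_eq_iff_eq_mul₀ natCard_ne_zero, mul_one] at hnorm
  have hre := congrArg Complex.re hnorm
  rw [Complex.re_sum, Complex.natCast_re] at hre
  simp only [Complex.mul_conj, Complex.ofReal_re] at hre
  have hn : (Module.finrank ℂ (Fin m → ℂ) : ℂ) = d := by rw [← ρ.char_one]; exact hd
  have hn0 : 0 < Module.finrank ℂ (Fin m → ℂ) := finrank_pos_of_isIrreducible ρ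
  have habs : ∀ z : G, z ∈ center G → Complex.normSq (ρ.character z) = (d : ℝ) ^ 2 := by
    intro z hz
    obtain ⟨c, hc⟩ := schur_scalar ρ (ρ z) fun g v => by
      rw [← Module.End.mul_apply, ← Module.End.mul_apply, ← map_mul, ← map_mul,
        mem_center_iff.1 hz g]
    have hch : ρ.character z = c * d := by
      rw [← hn]; simp [Representation.character, hc]
    have hpow : ∀ k : ℕ, ρ (z ^ k) = c ^ k • LinearMap.id := fun k => by
      induction k with
      | zero => simp [Module.End.one_eq_id]
      | succ k ih =>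
        rw [pow_succ, map_mul, ih, hc]
        simp [Module.End.mul_eq_comp, smul_smul, pow_succ, mul_comm]
    have hck : c ^ Nat.card G = 1 := by
      have h := congrArg (LinearMap.trace ℂ (Fin m → ℂ)) (hpow (Nat.card G))
      rw [pow_card_eq_one', map_one, LinearMap.trace_one] at h
      rw [map_smul, LinearMap.trace_id, smul_eq_mul] at h
      exact (mul_right_cancel₀ (Nat.cast_ne_zero.2 hn0.ne') ((one_mul _).trans h)).symm
    have hc1 : Complex.normSq c = 1 := by
      have h := congrArg Complex.normSq hck
      rw [map_pow, map_one] at h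
      exact (pow_eq_one_iff_of_nonneg (Complex.normSq_nonneg c) Nat.card_pos.ne').1 h
    rw [hch, map_mul, hc1, one_mul, Complex.normSq_natCast, sq]
  have hle : ∑ g ∈ Finset.univ.filter (fun g : G => g ∈ center G), Complex.normSq (ρ.character g) ≤
      ∑ g : G, Complex.normSq (ρ.character g) :=
    Finset.sum_le_sum_of_subset_of_nonneg (Finset.filter_subset _ _) fun g _ _ => Complex.normSq_nonneg _
  rw [Finset.sum_congr rfl (fun g hg => habs g (Finset.mem_filter.1 hg).2), Finset.sum_const,
    nsmul_eq_mul, hre] at hle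
  have hcount : (Finset.univ.filter fun g : G => g ∈ center G).card = Nat.card (center G) := by
    rw [← Fintype.card_subtype, Nat.card_eq_fintype_card]
  rw [hcount] at hle
  have h2 : Nat.card (center G) * d ^ 2 ≤ Nat.card (center G) * (center G).index := by
    rw [card_mul_index]
    exact_mod_cast hle
  exact Nat.le_of_mul_le_mul_left h2 Nat.card_pos

/-- The action on the five Sylow two-subgroups of a normal simple subgroup of order sixty. -/
theorem exists_embedding_perm_five {H : Type*} [Group H] [Finite H] (M : Subgroup H) [M.Normal]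
    [IsSimpleGroup M] (hM : Nat.card M = 60) (hC : centralizer (M : Set H) = ⊥) :
    ∃ f : H →* Equiv.Perm (Fin 5), Function.Injective f := by
  haveI : Fact (Nat.Prime 2) := ⟨Nat.prime_two⟩
  have hG : ¬ IsMulCommutative M := Basic.not_comm_of_not_prime (by rw [hM]; norm_num)
  have h2 : 2 ∣ Nat.card M := by rw [hM]; norm_num
  obtain ⟨hd, hodd, h1, hf⟩ := Basic.sylow_count (p := 2) hG h2 (a := 2) (m := 15)
    (by rw [hM]; norm_num) (by norm_num)
  have hn : Nat.card (Sylow 2 M) = 5 ∨ Nat.card (Sylow 2 M) = 15 := by
    have hle := Nat.le_of_dvd (by norm_num) hd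
    rw [hM] at hf
    generalize Nat.card (Sylow 2 M) = n at hd hodd h1 hle hf ⊢
    interval_cases n <;> revert hd hodd hf <;> decide
  have hn5 : Nat.card (Sylow 2 M) = 5 := by
    rcases hn with h | h
    · exact h
    exfalso
    have P : Sylow 2 M := default
    have hP4 : Nat.card (P : Subgroup M) = 4 := by
      simpa using Basic.card_sylow_eq_pow (p := 2) (a := 2) (m := 15) (by rw [hM]; norm_num) (by norm_num) P
    have hN := Basic.card_normalizer_mul P
    rw [h, hM] at hN
    have hPN : normalizer ((P : Subgroup M) : Set M) = (P : Subgroup M) :=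
      (eq_of_le_of_card_ge le_normalizer (by rw [hP4]; omega)).symm
    refine Basic.not_normalizer_le_centralizer hG h2 P fun g hg => ?_
    rw [hPN] at hg
    haveI : IsMulCommutative (P : Subgroup M) :=
      IsPGroup.isMulCommutative_of_card_eq_prime_sq (p := 2) (by rw [hP4]; norm_num)
    exact mem_centralizer_iff.2 fun y hy =>
      congrArg Subtype.val (mul_comm' (⟨y, hy⟩ : (P : Subgroup M)) ⟨g, hg⟩)
  let f₀ : H →* Equiv.Perm (Sylow 2 M) :=
    (MulAction.toPermHom (MulAut M) (Sylow 2 M)).comp (MulAut.conjNormal (H := M))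
  let c5 : Sylow 2 M ≃ Fin 5 := (Finite.equivFin _).trans (finCongr hn5)
  refine ⟨c5.permCongrHom.toMonoidHom.comp f₀, c5.permCongrHom.injective.comp ?_⟩
  rw [← MonoidHom.ker_eq_bot_iff]
  have hKM : f₀.ker ⊓ M = ⊥ := by
    rcases (inferInstance : (f₀.ker.subgroupOf M).Normal).eq_bot_or_eq_top with h | h
    · exact disjoint_iff.1 (subgroupOf_eq_bot.1 h)
    · exfalso
      obtain ⟨P⟩ : Nonempty (Sylow 2 M) := inferInstance
      refine Basic.normalizer_ne_top hG h2 P (top_le_iff.1 fun m _ => ?_)
      have hm : MulAut.conjNormal (H := M) (m : H) • P = P :=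
        Equiv.Perm.congr_fun (MonoidHom.mem_ker.1 (subgroupOf_eq_top.1 h m.2)) P
      refine Sylow.smul_eq_iff_mem_normalizer.1 ?_
      rw [MulAut.conjNormal_val] at hm
      exact hm
  refine le_bot_iff.1 (le_trans (fun x hx => ?_) hC.le)
  refine mem_centralizer_iff.2 fun m hm => ?_
  exact (commute_of_normal_of_disjoint f₀.ker M inferInstance inferInstance
    (disjoint_iff.2 hKM) x m hx hm).symm.eq

/-- The product of two irreducible characters on a direct product. -/
theorem irr_prod {A B : Type*} [Group A] [Finite A] [Group B] [Finite B] {α : A → ℂ} {β : B → ℂ}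
    (hα : Cfsg.IsIrrCharacter A α) (hβ : Cfsg.IsIrrCharacter B β) :
    Cfsg.IsIrrCharacter (A × B) (fun x => α x.1 * β x.2) := by
  classical
  haveI := Fintype.ofFinite A
  haveI := Fintype.ofFinite B
  refine isIrr_of_isCharacter_of_norm_one
    (isCharacter_mul (isCharacter_comp (MonoidHom.fst A B) (isCharacter_of_isIrr hα))
      (isCharacter_comp (MonoidHom.snd A B) (isCharacter_of_isIrr hβ))) ?_
  have h1 := classInner_isIrr_self hα
  have h2 := classInner_isIrr_self hβ
  rw [classInner_def] at h1 h2 ⊢
  rw [Nat.card_prod, Nat.cast_mul, mul_inv, Fintype.sum_prod_type]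
  simp only [map_mul]
  rw [Finset.sum_congr rfl (g := fun a => (α a * conj (α a)) * ∑ b, β b * conj (β b)) fun a _ => by
    rw [Finset.mul_sum]; exact Finset.sum_congr rfl fun b _ => by ring, ← Finset.sum_mul]
  linear_combination ((Nat.card B : ℂ)⁻¹ * ∑ b, β b * conj (β b)) * h1 + h2

theorem noncomm_six {R : Type*} [Group R] [Finite R] (h6 : Nat.card R = 6)
    (hnc : ¬ IsMulCommutative R) : 2 ∈ Cfsg.charDegrees R ∧ Nat.card (MulAut R) ≤ 36 := by
  classical
  constructor
  · haveI := Fintype.ofFinite R
    haveI := Fintype.ofFinite (Cfsg.IrrCharacter R)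
    obtain ⟨χ, hχ⟩ : ∃ χ : Cfsg.IrrCharacter R, (χ : R → ℂ) 1 ≠ 1 := by
      by_contra h
      push Not at h
      exact hnc ⟨⟨comm_of_forall_degree_one h⟩⟩
    obtain ⟨d, hd, hd0, hd6⟩ := irr_degree_dvd_card χ.2
    have hd1 : d ≠ 1 := by rintro rfl; exact hχ (by simpa using hd)
    have hle : d ^ 2 ≤ 6 :=
      (sq_degree_le_center_index χ.2 hd).trans
        (h6 ▸ Nat.le_of_dvd Nat.card_pos (index_dvd_card _))
    have : d = 2 := by
      have : d < 3 := by nlinarith
      omega
    subst this
    exact mem_charDegrees χ.2 hd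
  · obtain ⟨a, b, hab⟩ : ∃ a b : R, a * b ≠ b * a := by
      by_contra h
      push Not at h
      exact hnc ⟨⟨h⟩⟩
    have hcl : closure ({a, b} : Set R) = ⊤ := by
      by_contra hne
      set L := closure ({a, b} : Set R) with hL
      have ha : a ∈ L := subset_closure (Set.mem_insert a _)
      have hb : b ∈ L := subset_closure (Set.mem_insert_of_mem a rfl)
      have hdvd : Nat.card L ∣ 6 := h6 ▸ card_subgroup_dvd_card L
      have hlt : Nat.card L ≠ 6 := fun e => hne (eq_top_of_card_eq L (e.trans h6.symm))
      have hsmall : Nat.card L = 1 ∨ Nat.card L = 2 ∨ Nat.card L = 3 := by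
        have hle := Nat.le_of_dvd (by norm_num) hdvd
        generalize Nat.card L = l at hdvd hlt hle
        interval_cases l <;> simp_all
      haveI : IsCyclic L := by
        rcases hsmall with e | e | e
        · haveI := (Nat.card_eq_one_iff_unique.1 e).1
          infer_instance
        · exact isCyclic_of_prime_card (hp := ⟨Nat.prime_two⟩) e
        · exact isCyclic_of_prime_card (hp := ⟨Nat.prime_three⟩) e
      letI := IsCyclic.commGroup (α := L)
      exact hab (congrArg Subtype.val (mul_comm (⟨a, ha⟩ : L) ⟨b, hb⟩))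
    have hinj : Function.Injective (fun φ : MulAut R => (φ a, φ b)) := fun φ ψ h => by
      simp only [Prod.mk.injEq] at h
      refine MulEquiv.toMonoidHom_injective (MonoidHom.eq_of_eqOn_dense hcl ?_)
      rintro x (rfl | rfl)
      exacts [h.1, h.2]
    have := Nat.card_le_card_of_injective _ hinj
    rwa [Nat.card_prod, h6] at this

theorem adj_of_six {G : Type*} [Group G] (h : 6 ∈ Cfsg.charDegrees G) :
    (Cfsg.degreeGraph G).Adj 2 3 :=
  ⟨by norm_num, Nat.prime_two, Nat.prime_three, 6, h, by norm_num⟩

/-- With a simple quotient of order sixty over a radical of order six. -/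
theorem case_six {G : Type*} [Group G] [Finite G] (hG : Nat.card G = 360) (R : Subgroup G)
    [R.Normal] [IsSimpleGroup (G ⧸ R)] (hR : Nat.card R = 6) (hQ : Nat.card (G ⧸ R) = 60) :
    (Cfsg.degreeGraph G).Adj 2 3 ∨ ¬ (Cfsg.degreeGraph G).Adj 2 5 := by
  classical
  have hQnc : ¬ IsMulCommutative (G ⧸ R) := Basic.not_comm_of_not_prime (by rw [hQ]; norm_num)
  let φ : G →* MulAut R := MulAut.conjNormal
  have hker : ∀ x ∈ φ.ker, ∀ r ∈ R, x * r = r * x := by
    intro x hx r hr
    have h := congrArg Subtype.val (DFunLike.congr_fun (MonoidHom.mem_ker.1 hx) (⟨r, hr⟩ : R))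
    rw [MulAut.conjNormal_apply] at h
    exact mul_inv_eq_iff_eq_mul.1 h
  by_cases hc : IsMulCommutative R
  · right
    haveI hcyc : IsCyclic R := by
      letI := Fintype.ofFinite R
      obtain ⟨a, ha⟩ := exists_prime_orderOf_dvd_card' (G := R) (hp := ⟨Nat.prime_two⟩) 2 (by rw [hR]; norm_num)
      obtain ⟨b, hb⟩ := exists_prime_orderOf_dvd_card' (G := R) (hp := ⟨Nat.prime_three⟩) 3 (by rw [hR]; norm_num)
      refine isCyclic_of_orderOf_eq_card (a * b) ?_
      rw [(show Commute a b from mul_comm' a b).orderOf_mul_eq_mul_orderOf_of_coprime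
        (by rw [ha, hb]; norm_num), ha, hb, hR]
    have hsup : commutator G ⊔ R = ⊤ := by
      have hp : (commutator G).map (QuotientGroup.mk' R) = ⊤ := by
        rw [_root_.commutator_def, map_commutator,
          map_top_of_surjective _ (QuotientGroup.mk'_surjective R)]
        rcases (inferInstance : (commutator (G ⧸ R)).Normal).eq_bot_or_eq_top with h | h
        · refine absurd ⟨⟨fun a b => ?_⟩⟩ hQnc
          have : ⁅a, b⁆ ∈ _root_.commutator (G ⧸ R) := commutator_mem_commutator (mem_top a) (mem_top b)
          rw [h, mem_bot, commutatorElement_eq_one_iff_mul_comm] at this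
          exact this
        · exact h
      have := comap_map_eq (QuotientGroup.mk' R) (commutator G)
      rw [hp, comap_top, QuotientGroup.ker_mk'] at this
      exact this.symm
    have hcen : R ≤ center G := by
      intro r hr
      refine mem_center_iff.2 fun g => ?_
      have hg : g ∈ φ.ker := by
        have : commutator G ⊔ R ≤ φ.ker := sup_le
          (by
            rw [_root_.commutator_def, commutator_le]
            intro a _ b _
            rw [MonoidHom.mem_ker, map_commutatorElement, commutatorElement_eq_one_iff_mul_comm]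
            exact (IsCyclic.mulAutMulEquiv R).injective (by rw [map_mul, map_mul, mul_comm]))
          (fun s hs => MonoidHom.mem_ker.2 (MulEquiv.ext fun t => Subtype.ext (by
            show s * (t : G) * s⁻¹ = (t : G)
            have h : s * (t : G) = (t : G) * s := congrArg Subtype.val (mul_comm' (⟨s, hs⟩ : R) t)
            rw [h, mul_inv_cancel_right])))
        exact this (hsup ▸ mem_top g)
      exact hker g hg r hr
    rintro ⟨-, -, -, d, ⟨χ, hχ⟩, hd⟩
    obtain ⟨n, hn⟩ := char_one_nat (irr_isCharacter χ)
    rw [charDegree_of_eq hn] at hχ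
    subst hχ
    have h1 := sq_degree_le_center_index χ.2 hn
    have h2 : (center G).index ≤ 60 := by
      have := index_antitone hcen
      rwa [R.index_eq_card, hQ] at this
    have h3 : 10 ≤ n := Nat.le_of_dvd (Nat.pos_of_ne_zero fun e => irr_one_ne_zero χ.2 (by
      rw [hn, e, Nat.cast_zero])) hd
    nlinarith
  · left
    obtain ⟨h2, hAut⟩ := noncomm_six hR hc
    set C := φ.ker
    have hCR : C ⊓ R = ⊥ := by
      refine le_bot_iff.1 fun x hx => ?_
      have hxR : x ∈ R := hx.2
      have hz : (⟨x, hxR⟩ : R) ∈ center R :=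
        mem_center_iff.2 fun r => Subtype.ext (hker x hx.1 r r.2).symm
      have hzb : center R = ⊥ := by
        rcases Nat.eq_zero_or_pos ((Nat.card (center R)) - 1) with h | h
        · exact eq_bot_of_card_le _ (by omega)
        · exfalso
          apply hc
          have hd : Nat.card (center R) ∣ 6 := hR ▸ card_subgroup_dvd_card _
          haveI : IsCyclic (R ⧸ center R) := by
            have hm := card_eq_card_quotient_mul_card_subgroup (center R)
            rw [hR] at hm
            have hle := Nat.le_of_dvd (by norm_num) hd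
            by_cases h1 : Nat.card (R ⧸ center R) = 1
            · haveI := (Nat.card_eq_one_iff_unique.1 h1).1
              infer_instance
            · have h3 : Nat.card (R ⧸ center R) = 2 ∨ Nat.card (R ⧸ center R) = 3 := by
                generalize Nat.card (center R) = c at hm h hd hle
                generalize Nat.card (R ⧸ center R) = q at hm h1
                interval_cases c <;> omega
              rcases h3 with e | e
              · exact isCyclic_of_prime_card (hp := ⟨Nat.prime_two⟩) e
              · exact isCyclic_of_prime_card (hp := ⟨Nat.prime_three⟩) e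
          exact ⟨⟨commutative_of_cyclic_center_quotient (QuotientGroup.mk' (center R)) (by simp)⟩⟩
      rw [hzb, mem_bot] at hz
      exact mem_bot.2 (congrArg Subtype.val hz)
    have hCne : C ≠ ⊥ := by
      intro h
      have := Nat.card_le_card_of_injective φ ((MonoidHom.ker_eq_bot_iff φ).1 h)
      omega
    have himg : C.map (QuotientGroup.mk' R) = ⊤ := by
      rcases (‹IsSimpleGroup (G ⧸ R)›.eq_bot_or_eq_top_of_normal _
        ((MonoidHom.normal_ker φ).map _ (QuotientGroup.mk'_surjective R))) with h | h
      · rw [Subgroup.map_eq_bot_iff, QuotientGroup.ker_mk'] at h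
        exact absurd (by rw [← hCR, inf_eq_left.2 h]) hCne
      · exact h
    let π : C →* G ⧸ R := (QuotientGroup.mk' R).comp C.subtype
    have hπ : Function.Bijective π := by
      refine ⟨(MonoidHom.ker_eq_bot_iff π).1 (le_bot_iff.1 fun x hx => ?_), fun q => ?_⟩
      · have : (x : G) ∈ C ⊓ R := ⟨x.2, (QuotientGroup.eq_one_iff _).1 hx⟩
        rw [hCR, mem_bot] at this
        exact mem_bot.2 (Subtype.ext this)
      · obtain ⟨g, hg, rfl⟩ := (himg ▸ mem_top q : q ∈ C.map (QuotientGroup.mk' R))
        exact ⟨⟨g, hg⟩, rfl⟩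
    let e := MulEquiv.ofBijective π hπ
    let ψ : R × C →* G := MonoidHom.noncommCoprod R.subtype C.subtype
      fun r c => (hker c c.2 r r.2).symm
    have hψi : Function.Injective ψ := by
      rw [← MonoidHom.ker_eq_bot_iff, eq_bot_iff]
      rintro ⟨r, c⟩ h
      have h' : (r : G) * (c : G) = 1 := h
      have hcR : (c : G) ∈ C ⊓ R := ⟨c.2, by
        rw [eq_inv_of_mul_eq_one_right h']; exact R.inv_mem r.2⟩
      rw [hCR, mem_bot] at hcR
      rw [hcR, mul_one] at h'
      exact mem_bot.2 (Prod.ext (Subtype.ext h') (Subtype.ext hcR))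
    have hψ : Function.Bijective ψ := by
      refine (Nat.bijective_iff_injective_and_card _).2 ⟨hψi, ?_⟩
      rw [Nat.card_prod, hR, Nat.card_congr e.toEquiv, hQ, hG]
    have h3 : 3 ∈ Cfsg.charDegrees C := by
      rw [BlocksChars.SL2Degrees.charDegrees_congr e]
      exact (degSet (q := 4) hQ (by simp)).2.2.2
    obtain ⟨α, hα⟩ := h2
    obtain ⟨β, hβ⟩ := h3
    obtain ⟨a, ha⟩ := char_one_nat (irr_isCharacter α)
    obtain ⟨b, hb⟩ := char_one_nat (irr_isCharacter β)
    rw [charDegree_of_eq ha] at hα
    rw [charDegree_of_eq hb] at hβ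
    subst hα hβ
    refine adj_of_six ?_
    rw [← BlocksChars.SL2Degrees.charDegrees_congr (MulEquiv.ofBijective ψ hψ)]
    refine mem_charDegrees (irr_prod α.2 β.2) ?_
    simp only [Prod.fst_one, Prod.snd_one, ha, hb]
    norm_num

/-- Over a radical of order 360, either degree six appears or ten does not. -/
theorem adj_of_360 {G : Type*} [Group G] [Finite G] (hG : Nat.card G = 360) (R : Subgroup G)
    [R.Normal] (M : Subgroup (G ⧸ R)) [M.Normal] [IsSimpleGroup M] (hM : Nat.card M = 60)
    (hC : centralizer (M : Set (G ⧸ R)) = ⊥) :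
    (Cfsg.degreeGraph G).Adj 2 3 ∨ ¬ (Cfsg.degreeGraph G).Adj 2 5 := by
  have h1 := card_eq_card_quotient_mul_card_subgroup R
  have h2 : 60 ∣ Nat.card (G ⧸ R) := hM ▸ card_subgroup_dvd_card M
  obtain ⟨f, hf⟩ := exists_embedding_perm_five M hM hC
  have h3 : Nat.card (G ⧸ R) ∣ 120 := by
    have := card_dvd_of_injective f hf
    rwa [Nat.card_perm, Nat.card_fin, show Nat.factorial 5 = 120 from rfl] at this
  have hcases : Nat.card (G ⧸ R) = 60 ∨ Nat.card (G ⧸ R) = 120 := by
    obtain ⟨c, hc⟩ := h2
    have := Nat.le_of_dvd (by norm_num) h3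
    have := (Nat.card_pos (α := G ⧸ R))
    omega
  rcases hcases with e | e
  · have hMtop : M = ⊤ := eq_top_of_card_eq M (by rw [hM, e])
    haveI : IsSimpleGroup (G ⧸ R) :=
      (MulEquiv.isSimpleGroup_congr ((MulEquiv.subgroupCongr hMtop).trans topEquiv)).1 inferInstance
    exact case_six hG R (by rw [e, hG] at h1; omega) e
  · left
    have hbij : Function.Bijective f := (Nat.bijective_iff_injective_and_card f).2
      ⟨hf, by rw [e, Nat.card_perm, Nat.card_fin]; rfl⟩
    refine adj_of_six (BlocksChars.SL2Degrees.charDegrees_subset_of_surjective (QuotientGroup.mk' R)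
      (QuotientGroup.mk'_surjective R) ?_)
    rw [BlocksChars.SL2Degrees.charDegrees_congr (MulEquiv.ofBijective f hbij)]
    exact six_mem_perm_five

end Cfsg.Agent.SmallSimple.DegreeGraph6000
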