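import Cfsg.Agent.Lib.SmallSimple.DegreeGraph6000.Radical
import Cfsg.Agent.Lib.SmallSimple.DegreeGraph6000.Centralized
import Cfsg.Agent.Lib.SmallSimple.DegreeGraph6000.Case504
import Cfsg.Agent.Lib.SmallSimple.DegreeGraph6000.Sixty

/-!
# A group with order and degree graph of a small simple group is simple
-/

set_option autoImplicit false
set_option linter.style.haveILetI false

namespace Cfsg.Agent.SmallSimple.DegreeGraph6000

open Subgroup

/-- The divisor table of the simple orders. -/
theorem divisor_pairs : ∀ n ∈ ord, ∀ t ∈ ord, t ∣ n → t = n ∨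
    (n, t) ∈ [(360, 60), (504, 168), (660, 60), (2520, 60), (2520, 168), (2520, 360), (2520, 504),
      (3420, 60), (4080, 60)] := by decide +kernel

/-- The condition on prime powers used for solvable groups. -/
theorem prime_power_cond {n p q0 : ℕ} (hn : 0 < n)
    (h : ∀ a ∈ List.range 13, ∀ q ∈ List.range (n + 1), 1 ≤ a → 2 ≤ q → q ^ a ∣ n →
      q ≠ p → q ^ a % p = 1 → q.Prime → q = q0 ∧ ¬ q ^ (a + 1) ∣ n) (hlt : n < 6000)
    (q a : ℕ) (hq : q.Prime) (hqp : q ≠ p) (ha : 1 ≤ a) (hd : q ^ a ∣ n)
    (hmod : q ^ a % p = 1) : q = q0 ∧ ¬ q ^ (a + 1) ∣ n := by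
  have hle := Nat.le_of_dvd hn hd
  refine h a (List.mem_range.2 ?_) q (List.mem_range.2 ?_) ha hq.two_le hd hqp hmod hq
  · by_contra hge
    push Not at hge
    have : 2 ^ 13 ≤ q ^ a :=
      (Nat.pow_le_pow_right (by norm_num) hge).trans (Nat.pow_le_pow_left hq.two_le a)
    omega
  · exact Nat.lt_succ_of_le ((Nat.le_self_pow (by omega) q).trans hle)

theorem not_solvable {G : Type*} [Group G] [Finite G] [Group.IsSolvable G] {n p q0 : ℕ}
    (hG : Nat.card G = n) (hn : 0 < n) (hlt : n < 6000) (hp : p.Prime) (hpn : p ∣ n)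
    (hp2 : ¬ p ^ 2 ∣ n)
    (h : ∀ a ∈ List.range 13, ∀ q ∈ List.range (n + 1), 1 ≤ a → 2 ≤ q → q ^ a ∣ n →
      q ≠ p → q ^ a % p = 1 → q.Prime → q = q0 ∧ ¬ q ^ (a + 1) ∣ n)
    (h1 : p ∈ Cfsg.degreePrimes G) (h2 : q0 ∈ Cfsg.degreePrimes G) : False := by
  haveI := Fact.mk hp
  rcases not_vertex_solvable (G := G) (p := p) (q0 := q0) (hG ▸ hpn) (hG ▸ hp2)
    (fun q a hq hqp ha hd hmod => by
      rw [hG] at hd ⊢
      exact prime_power_cond hn h hlt q a hq hqp ha hd
        (by rw [Nat.ModEq, Nat.one_mod_eq_one.2 hp.ne_one] at hmod; exact hmod)) with e | e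
  exacts [e h1, e h2]

/-- A check that avoids the large ranges: only divisors matter. -/
theorem cond_of_divisors {n p q0 : ℕ}
    (h : ∀ d ∈ n.divisors, d % p = 1 → 1 < d → d.minFac ≠ p →
      (∀ a ∈ List.range 13, d.minFac ^ a = d → d.minFac = q0 ∧ ¬ d * d.minFac ∣ n)) :
    n ≠ 0 → ∀ a ∈ List.range 13, ∀ q ∈ List.range (n + 1), 1 ≤ a → 2 ≤ q → q ^ a ∣ n →
      q ≠ p → q ^ a % p = 1 → q.Prime → q = q0 ∧ ¬ q ^ (a + 1) ∣ n := by
  intro hn a ha q _ ha1 _ hd hqp hmod hq
  have hm : (q ^ a).minFac = q := Nat.Prime.pow_minFac hq (by omega)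
  have h1 : 1 < q ^ a := Nat.one_lt_pow (by omega) hq.one_lt
  obtain ⟨e1, e2⟩ := h (q ^ a) (Nat.mem_divisors.2 ⟨hd, hn⟩) hmod h1 (by rw [hm]; exact hqp) a ha
    (by rw [hm])
  rw [hm] at e1 e2
  exact ⟨e1, by rwa [pow_succ]⟩

theorem isSimple_of_graph {G S : Type*} [Group G] [Finite G] [Group S] [Finite S] [IsSimpleGroup S]
    (hS : Nat.card S ∈ ord) (hcard : Nat.card G = Nat.card S)
    (hV : Cfsg.degreePrimes G = Cfsg.degreePrimes S)
    (hE : Cfsg.degreeGraph G = Cfsg.degreeGraph S) : IsSimpleGroup G := by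
  classical
  set n := Nat.card S with hnS
  have hn := hS
  have hlt : n < 6000 := by
    have : ∀ m ∈ ord, m < 6000 := by decide
    exact this n hS
  have hv : ∀ p, (n, p) ∈ [(60, 5), (168, 7), (168, 2), (360, 5), (504, 7), (504, 2), (660, 11),
      (1092, 13), (2448, 17), (2520, 7), (2520, 5), (2520, 2), (3420, 19), (4080, 17), (5616, 13),
      (5616, 3)] → p ∈ Cfsg.degreePrimes G := fun p hp => hV ▸ vertex hnS.symm hp
  by_cases hsolv : Group.IsSolvable G
  · exfalso
    simp only [ord, List.mem_cons, List.not_mem_nil, or_false] at hn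
    rcases hn with e | e | e | e | e | e | e | e | e | e | e <;> rw [e] at hcard
    · exact not_solvable (p := 5) (q0 := 5) hcard (by norm_num) (by norm_num) (by norm_num)
        (by norm_num) (by norm_num) (cond_of_divisors (by decide +kernel) (by norm_num))
        (hv 5 (by simp [e])) (hv 5 (by simp [e]))
    · exact not_solvable (p := 7) (q0 := 2) hcard (by norm_num) (by norm_num) (by norm_num)
        (by norm_num) (by norm_num) (cond_of_divisors (by decide +kernel) (by norm_num))
        (hv 7 (by simp [e])) (hv 2 (by simp [e]))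
    · exact not_solvable (p := 5) (q0 := 5) hcard (by norm_num) (by norm_num) (by norm_num)
        (by norm_num) (by norm_num) (cond_of_divisors (by decide +kernel) (by norm_num))
        (hv 5 (by simp [e])) (hv 5 (by simp [e]))
    · exact not_solvable (p := 7) (q0 := 2) hcard (by norm_num) (by norm_num) (by norm_num)
        (by norm_num) (by norm_num) (cond_of_divisors (by decide +kernel) (by norm_num))
        (hv 7 (by simp [e])) (hv 2 (by simp [e]))
    · exact not_solvable (p := 11) (q0 := 11) hcard (by norm_num) (by norm_num) (by norm_num)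
        (by norm_num) (by norm_num) (cond_of_divisors (by decide +kernel) (by norm_num))
        (hv 11 (by simp [e])) (hv 11 (by simp [e]))
    · exact not_solvable (p := 13) (q0 := 13) hcard (by norm_num) (by norm_num) (by norm_num)
        (by norm_num) (by norm_num) (cond_of_divisors (by decide +kernel) (by norm_num))
        (hv 13 (by simp [e])) (hv 13 (by simp [e]))
    · exact not_solvable (p := 17) (q0 := 17) hcard (by norm_num) (by norm_num) (by norm_num)
        (by norm_num) (by norm_num) (cond_of_divisors (by decide +kernel) (by norm_num))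
        (hv 17 (by simp [e])) (hv 17 (by simp [e]))
    · exact not_solvable (p := 7) (q0 := 2) hcard (by norm_num) (by norm_num) (by norm_num)
        (by norm_num) (by norm_num) (cond_of_divisors (by decide +kernel) (by norm_num))
        (hv 7 (by simp [e])) (hv 2 (by simp [e]))
    · exact not_solvable (p := 19) (q0 := 19) hcard (by norm_num) (by norm_num) (by norm_num)
        (by norm_num) (by norm_num) (cond_of_divisors (by decide +kernel) (by norm_num))
        (hv 19 (by simp [e])) (hv 19 (by simp [e]))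
    · exact not_solvable (p := 17) (q0 := 17) hcard (by norm_num) (by norm_num) (by norm_num)
        (by norm_num) (by norm_num) (cond_of_divisors (by decide +kernel) (by norm_num))
        (hv 17 (by simp [e])) (hv 17 (by simp [e]))
    · exact not_solvable (p := 13) (q0 := 3) hcard (by norm_num) (by norm_num) (by norm_num)
        (by norm_num) (by norm_num) (cond_of_divisors (by decide +kernel) (by norm_num))
        (hv 13 (by simp [e])) (hv 3 (by simp [e]))
  obtain ⟨R, hR, hRs, hrad⟩ := exists_radical G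
  haveI : Nontrivial (G ⧸ R) := by
    by_contra hnt
    rw [not_nontrivial_iff_subsingleton] at hnt
    haveI := hRs
    haveI : Group.IsSolvable (G ⧸ R) := isSolvable_of_comm fun a b => Subsingleton.elim _ _
    exact hsolv (solvable_of_ker_le_range R.subtype (QuotientGroup.mk' R) (by simp))
  have hdvd : Nat.card (G ⧸ R) ∣ n := hcard ▸ ⟨_, card_eq_card_quotient_mul_card_subgroup R⟩
  obtain ⟨M, hM, hMs, hMord, hC⟩ := exists_simple_normal hS hdvd hrad
  rcases divisor_pairs n hS _ hMord ((card_subgroup_dvd_card M).trans hdvd) with e | e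
  · -- the quotient and the group are simple
    have h1 : Nat.card (G ⧸ R) = n :=
      Nat.dvd_antisymm hdvd (e ▸ card_subgroup_dvd_card M)
    have hR1 : R = ⊥ := by
      have h2 := card_eq_card_quotient_mul_card_subgroup R
      rw [h1, hcard] at h2
      refine eq_bot_of_card_eq _ ?_
      exact (Nat.eq_of_mul_eq_mul_left (show 0 < n from hnS ▸ Nat.card_pos)
        (by rw [mul_one]; exact h2)).symm
    have hMtop : M = ⊤ := eq_top_of_card_eq M (e.trans h1.symm)
    subst hR1
    haveI : IsSimpleGroup (G ⧸ (⊥ : Subgroup G)) :=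
      (MulEquiv.isSimpleGroup_congr ((MulEquiv.subgroupCongr hMtop).trans topEquiv)).1 hMs
    exact (MulEquiv.isSimpleGroup_congr QuotientGroup.quotientBot).1 inferInstance
  · exfalso
    have general : ∀ (p k t : ℕ), Nat.card M = t → n = t * k → p.Prime → ¬ p ∣ t → p ∣ k → k / p < p →
        (t, p) ∈ [(60, 7), (60, 11), (60, 17), (60, 19), (168, 5), (504, 5), (360, 7)] →
        p ∈ Cfsg.degreePrimes G → False := by
      intro p k t hMt hnk hp hpt hpk hkp hlist hpV
      haveI := Fact.mk hp
      exact not_vertex_radical R M hC hMt (hcard.trans hnk) hpt hpk hkp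
        (fun y hy => centralized hlist M hMt y hy) hpV
    simp only [List.mem_cons, Prod.mk.injEq, List.not_mem_nil, or_false] at e
    rcases e with ⟨e1, e2⟩ | ⟨e1, e2⟩ | ⟨e1, e2⟩ | ⟨e1, e2⟩ | ⟨e1, e2⟩ | ⟨e1, e2⟩ | ⟨e1, e2⟩ |
      ⟨e1, e2⟩ | ⟨e1, e2⟩
    · obtain ⟨h23, h25⟩ := edges_360 (S := S) (hnS.symm.trans e1)
      rcases adj_of_360 (hcard.trans e1) R M e2 hC with h | h
      · exact h23 (hE ▸ h)
      · exact h (hE ▸ h25)
    · exact no_edge_504 (S := S) (hnS.symm.trans e1) (hE ▸ adj_of_504 (hcard.trans e1) R M e2 hC)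
    · exact general 11 11 60 e2 (by rw [e1]) (by norm_num) (by norm_num) (by norm_num) (by norm_num)
        (by simp) (hv 11 (by simp [e1]))
    · exact general 7 42 60 e2 (by rw [e1]) (by norm_num) (by norm_num) (by norm_num) (by norm_num)
        (by simp) (hv 7 (by simp [e1]))
    · exact general 5 15 168 e2 (by rw [e1]) (by norm_num) (by norm_num) (by norm_num) (by norm_num)
        (by simp) (hv 5 (by simp [e1]))
    · exact general 7 7 360 e2 (by rw [e1]) (by norm_num) (by norm_num) (by norm_num) (by norm_num)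
        (by simp) (hv 7 (by simp [e1]))
    · exact general 5 5 504 e2 (by rw [e1]) (by norm_num) (by norm_num) (by norm_num) (by norm_num)
        (by simp) (hv 5 (by simp [e1]))
    · exact general 19 57 60 e2 (by rw [e1]) (by norm_num) (by norm_num) (by norm_num) (by norm_num)
        (by simp) (hv 19 (by simp [e1]))
    · exact general 17 68 60 e2 (by rw [e1]) (by norm_num) (by norm_num) (by norm_num) (by norm_num)
        (by simp) (hv 17 (by simp [e1]))

end Cfsg.Agent.SmallSimple.DegreeGraph6000
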