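import Cfsg.Agent.Lib.SmallSimple.DegreeGraph6000.Orders
import Cfsg.Agent.Lib.SmallSimple.DegreeGraph6000.Solvable

/-!
# The simple normal subgroup over the solvable radical
-/

set_option autoImplicit false
set_option linter.style.haveILetI false

namespace Cfsg.Agent.SmallSimple.DegreeGraph6000

open Subgroup
open scoped commutatorElement

/-- A maximal normal solvable subgroup, with the property of its quotient. -/
theorem exists_radical (G : Type*) [Group G] [Finite G] :
    ∃ (R : Subgroup G) (_ : R.Normal), Group.IsSolvable R ∧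
      ∀ W : Subgroup (G ⧸ R), W.Normal → Group.IsSolvable W → W = ⊥ := by
  obtain ⟨R, ⟨hR, hRs⟩, hmax⟩ := Set.Finite.exists_maximalFor (fun H : Subgroup G => Nat.card H)
    {H : Subgroup G | H.Normal ∧ Group.IsSolvable H} (Set.toFinite _)
    ⟨⊥, inferInstance, isSolvable_of_comm fun a b => Subsingleton.elim _ _⟩
  refine ⟨R, hR, hRs, fun W hW hWs => ?_⟩
  set V := W.comap (QuotientGroup.mk' R) with hV
  have hRV : R ≤ V := fun r hr => by
    simp [hV, (QuotientGroup.eq_one_iff r).2 hr, one_mem]
  have hVs : Group.IsSolvable V := by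
    let f : V →* W := ((QuotientGroup.mk' R).comp V.subtype).codRestrict W fun v => v.2
    refine solvable_of_ker_le_range (Subgroup.inclusion hRV) f fun v hv => ?_
    have : (v : G) ∈ R := (QuotientGroup.eq_one_iff _).1 (congrArg Subtype.val hv)
    exact ⟨⟨v, this⟩, rfl⟩
  have hle : Nat.card V ≤ Nat.card R :=
    hmax ⟨inferInstance, hVs⟩ (Nat.le_of_dvd Nat.card_pos (card_dvd_of_le hRV))
  have he : R = V := eq_of_le_of_card_ge hRV hle
  refine le_bot_iff.1 fun w hw => ?_
  obtain ⟨g, rfl⟩ := QuotientGroup.mk'_surjective R w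
  exact mem_bot.2 ((QuotientGroup.eq_one_iff g).2 (he ▸ (hw : g ∈ V)))

/-- No simple order below six thousand is divisible by the product of two of them. -/
theorem ord_mul_not_dvd : ∀ n ∈ ord, ∀ s ∈ ord, ∀ t ∈ ord, ¬ s * t ∣ n := by decide +kernel

/-- The simple normal subgroup of a group with trivial radical. -/
theorem exists_simple_normal {H : Type*} [Group H] [Finite H] [Nontrivial H] {n : ℕ}
    (hn : n ∈ ord) (hd : Nat.card H ∣ n)
    (hrad : ∀ W : Subgroup H, W.Normal → Group.IsSolvable W → W = ⊥) :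
    ∃ (M : Subgroup H) (_ : M.Normal) (_ : IsSimpleGroup M), Nat.card M ∈ ord ∧
      centralizer (M : Set H) = ⊥ := by
  have hn0 : 0 < n := Nat.pos_of_ne_zero fun e => by subst e; exact absurd hn (by decide)
  have hn6 : n < 6000 := by
    have : ∀ m ∈ ord, m < 6000 := by decide
    exact this n hn
  have hsub : ∀ A : Subgroup H, Nat.card A ∣ n := fun A => (card_subgroup_dvd_card A).trans hd
  have hlt : ∀ A : Subgroup H, Nat.card A < 6000 := fun A =>
    lt_of_le_of_lt (Nat.le_of_dvd hn0 (hsub A)) hn6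
  obtain ⟨M, ⟨hM, hM0⟩, hmin⟩ := Set.Finite.exists_minimalFor (fun A : Subgroup H => Nat.card A)
    {A : Subgroup H | A.Normal ∧ A ≠ ⊥} (Set.toFinite _) ⟨⊤, inferInstance, top_ne_bot⟩
  haveI := hM
  have hmin' : ∀ A : Subgroup H, A.Normal → A ≤ M → A = ⊥ ∨ A = M := fun A hA hAM => by
    by_cases h0 : A = ⊥
    · exact Or.inl h0
    · exact Or.inr (eq_of_le_of_card_ge hAM (hmin ⟨hA, h0⟩ (Nat.le_of_dvd Nat.card_pos (card_dvd_of_le hAM))))
  have hMs : ¬ Group.IsSolvable M := fun h => hM0 (hrad M hM h)
  haveI : Nontrivial M := M.nontrivial_iff_ne_bot.2 hM0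
  -- `M` is perfect
  have hperf : commutator M = ⊤ := by
    rcases hmin' ((commutator M).map M.subtype) ConjAct.normal_of_characteristic_of_normal
      (map_subtype_le _) with h | h
    · exfalso
      have h1 := (map_eq_bot_iff_of_injective _ M.subtype_injective).1 h
      refine hMs (isSolvable_of_comm fun a b => ?_)
      have : ⁅a, b⁆ ∈ _root_.commutator M := commutator_mem_commutator (mem_top a) (mem_top b)
      rw [h1, mem_bot, commutatorElement_eq_one_iff_mul_comm] at this
      exact this
    · exact map_injective M.subtype_injective (h.trans (by rw [← MonoidHom.range_eq_map, range_subtype]))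
  have hfactor : ∀ {A : Type _} [Group A] [Finite A], Nat.card A < 6000 → ¬ Group.IsSolvable A →
      ∃ t ∈ ord, t ∣ Nat.card A := fun {A} _ _ h1 h2 => by
    by_contra hno
    push Not at hno
    exact h2 (isSolvable_of_no_ord h1 hno)
  have hsimple : IsSimpleGroup M := by
    refine ⟨fun W hW => ?_⟩
    by_contra hcon
    push Not at hcon
    haveI := hW
    have hQs : ¬ Group.IsSolvable (M ⧸ W) := fun h => by
      apply hcon.2
      rw [← QuotientGroup.ker_mk' W]
      refine MonoidHom.ker_eq_top_iff.2 (MonoidHom.ext fun x => ?_)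
      obtain ⟨k, hk⟩ := h.solvable
      have hall : ∀ k, derivedSeries (M ⧸ W) k = ⊤ := fun k => by
        induction k with
        | zero => rfl
        | succ k ih =>
          rw [derivedSeries_succ, ih, ← Subgroup.map_top_of_surjective _ (QuotientGroup.mk'_surjective W),
            ← map_commutator, ← _root_.commutator_def, hperf]
      have htop : (⊤ : Subgroup (M ⧸ W)) = ⊥ := (hall k).symm.trans hk
      exact mem_bot.1 (htop ▸ mem_top _)
    have hWs : ¬ Group.IsSolvable W := fun hWs => by
      haveI := hWs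
      haveI : Nontrivial W := W.nontrivial_iff_ne_bot.2 hcon.1
      haveI : (Cfsg.fittingSubgroup W).Characteristic := Cores.fittingSubgroup_characteristic
      haveI : ((Cfsg.fittingSubgroup W).map W.subtype).Normal :=
        ConjAct.normal_of_characteristic_of_normal
      have hle : (Cfsg.fittingSubgroup W).map W.subtype ≤ Cfsg.fittingSubgroup M :=
        Cores.le_fittingSubgroup
          (Cores.isNilpotent_map _ W.subtype Cores.fittingSubgroup_isNilpotent)
      haveI : (Cfsg.fittingSubgroup M).Characteristic := Cores.fittingSubgroup_characteristic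
      have hnil : Group.IsNilpotent ↥((Cfsg.fittingSubgroup M).map M.subtype) :=
        Cores.isNilpotent_map _ M.subtype Cores.fittingSubgroup_isNilpotent
      have h0 : (Cfsg.fittingSubgroup M).map M.subtype = ⊥ :=
        hrad _ ConjAct.normal_of_characteristic_of_normal (by haveI := hnil; infer_instance)
      rw [(map_eq_bot_iff_of_injective _ M.subtype_injective).1 h0, le_bot_iff,
        map_eq_bot_iff_of_injective _ W.subtype_injective] at hle
      exact Cores.fittingSubgroup_ne_bot hle
    have hmul := card_eq_card_quotient_mul_card_subgroup W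
    have hWlt : Nat.card W < 6000 :=
      lt_of_le_of_lt (Nat.le_of_dvd Nat.card_pos (card_subgroup_dvd_card W)) (hlt M)
    have hQlt : Nat.card (M ⧸ W) < 6000 :=
      lt_of_le_of_lt (Nat.le_of_dvd Nat.card_pos ⟨_, hmul⟩) (hlt M)
    obtain ⟨t1, ht1, hd1⟩ := hfactor hQlt hQs
    obtain ⟨t2, ht2, hd2⟩ := hfactor hWlt hWs
    exact ord_mul_not_dvd n hn t1 ht1 t2 ht2 ((hmul ▸ Nat.mul_dvd_mul hd1 hd2).trans (hsub M))
  have hnc : ¬ IsMulCommutative M := fun h => hMs (isSolvable_of_comm fun a b => mul_comm' a b)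
  refine ⟨M, hM, hsimple, mem_ord hnc (hlt M), ?_⟩
  haveI : (centralizer (M : Set H)).Normal := inferInstance
  refine hrad _ inferInstance ?_
  by_contra hCs
  obtain ⟨t2, ht2, hd2⟩ := hfactor (hlt _) hCs
  refine ord_mul_not_dvd n hn _ (mem_ord hnc (hlt M)) t2 ht2 ?_
  refine (Nat.mul_dvd_mul_left _ hd2).trans (dvd_trans ?_ hd)
  have hdis : M ⊓ centralizer (M : Set H) = ⊥ := by
    refine le_bot_iff.1 fun x hx => ?_
    have hz : (⟨x, hx.1⟩ : M) ∈ center M :=
      mem_center_iff.2 fun m => Subtype.ext (mem_centralizer_iff.1 hx.2 m m.2)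
    rw [SmallSimple.Basic.center_eq_bot hnc, mem_bot] at hz
    exact mem_bot.2 (congrArg Subtype.val hz)
  have hrel : M.relIndex (M ⊔ centralizer (M : Set H)) = Nat.card (centralizer (M : Set H)) := by
    rw [relIndex_sup_left, ← inf_relIndex_right, hdis, relIndex_bot_left]
  have := relIndex_mul_relIndex ⊥ M (M ⊔ centralizer (M : Set H)) bot_le le_sup_left
  rw [relIndex_bot_left, relIndex_bot_left, hrel] at this
  exact this ▸ card_subgroup_dvd_card _

/-- A prime with `p ∥ |G|` whose elements centralise the simple subgroup is no vertex. -/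
theorem not_vertex_radical {G : Type*} [Group G] [Finite G] {p t k : ℕ} [Fact p.Prime]
    (R : Subgroup G) [R.Normal] (M : Subgroup (G ⧸ R)) [M.Normal]
    (hC : centralizer (M : Set (G ⧸ R)) = ⊥) (ht : Nat.card M = t) (hN : Nat.card G = t * k)
    (hpt : ¬ p ∣ t) (hk : p ∣ k) (hkp : k / p < p)
    (hcent : ∀ y : G ⧸ R, orderOf y = p → M ≤ centralizer ({y} : Set (G ⧸ R))) :
    p ∉ Cfsg.degreePrimes G := by
  classical
  haveI := Fintype.ofFinite G
  have hpp : p.Prime := Fact.out
  have ht0 : 0 < t := ht ▸ Nat.card_pos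
  have hk0 : 0 < k := Nat.pos_of_ne_zero fun e => Nat.card_pos.ne' (hN.trans (by rw [e, mul_zero]))
  obtain ⟨j, rfl⟩ := hk
  rw [Nat.mul_div_cancel_left j hpp.pos] at hkp
  have hj0 : 0 < j := Nat.pos_of_ne_zero fun e => by simp [e] at hk0
  obtain ⟨y, hy⟩ := exists_prime_orderOf_dvd_card' (G := G) p
    (by rw [hN]; exact Dvd.dvd.mul_left (dvd_mul_right p j) t)
  have hyR : y ∈ R := by
    rw [← QuotientGroup.eq_one_iff]
    rcases (Nat.dvd_prime hpp).1 (hy ▸ orderOf_map_dvd (QuotientGroup.mk' R) y) with h | h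
    · exact orderOf_eq_one_iff.1 h
    · have : (QuotientGroup.mk' R y) ∈ centralizer (M : Set (G ⧸ R)) :=
        mem_centralizer_iff.2 fun m hm => mem_centralizer_singleton_iff.1 (hcent _ h hm)
      rw [hC, mem_bot] at this
      exact this
  have hRk : Nat.card R ∣ p * j := by
    have h1 := card_eq_card_quotient_mul_card_subgroup R
    have h2 : t ∣ Nat.card (G ⧸ R) := ht ▸ card_subgroup_dvd_card M
    rw [hN] at h1
    obtain ⟨c, hc⟩ := h2
    rw [hc, mul_assoc] at h1
    exact ⟨c, (Nat.eq_of_mul_eq_mul_left ht0 h1).trans (mul_comm _ _)⟩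
  have hpR : p ∣ Nat.card R := by
    have := orderOf_dvd_natCard (⟨y, hyR⟩ : R)
    rwa [Subgroup.orderOf_mk, hy] at this
  have hP0 : ∀ P : Sylow p R, Nat.card (P : Subgroup R) * (P : Subgroup R).index = Nat.card R :=
    fun P => card_mul_index _
  obtain ⟨P⟩ : Nonempty (Sylow p R) := inferInstance
  have hPp : p ∣ Nat.card (P : Subgroup R) := P.dvd_card_of_dvd_card hpR
  have hidx : (P : Subgroup R).index ∣ j := by
    refine Nat.dvd_of_mul_dvd_mul_left hpp.pos ?_
    refine (Nat.mul_dvd_mul_right hPp _).trans ?_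
    rw [hP0 P]
    exact hRk
  have hn : Nat.card (Sylow p R) = 1 := by
    have h1 := Nat.le_of_dvd hj0 (P.card_dvd_index.trans hidx)
    have h2 := card_sylow_modEq_one p R
    have h3 : 0 < Nat.card (Sylow p R) := Nat.card_pos
    rw [Nat.ModEq, Nat.one_mod_eq_one.2 hpp.ne_one] at h2
    rwa [Nat.mod_eq_of_lt (lt_of_le_of_lt h1 hkp)] at h2
  haveI : Subsingleton (Sylow p R) := (Nat.card_eq_one_iff_unique.1 hn).1
  haveI hPn : (P : Subgroup R).Normal := Sylow.normal_of_subsingleton P
  haveI : (P : Subgroup R).Characteristic := P.characteristic_of_normal hPn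
  haveI hPn' : ((P : Subgroup R).map R.subtype).Normal := ConjAct.normal_of_characteristic_of_normal
  set P' := (P : Subgroup R).map R.subtype
  have hP : Nat.card P' = p := by
    obtain ⟨i, hi⟩ := IsPGroup.iff_card.1 P.isPGroup'
    rw [card_map_of_injective R.subtype_injective, hi]
    rw [hi] at hPp
    match i with
    | 0 => rw [pow_zero, Nat.dvd_one] at hPp; exact absurd hPp hpp.ne_one
    | 1 => exact pow_one p
    | i + 2 =>
      exfalso
      have h1 : p ^ 2 ∣ p * j := (Nat.pow_dvd_pow p (by omega : 2 ≤ i + 2)).trans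
        ((hi ▸ card_subgroup_dvd_card (P : Subgroup R)).trans hRk)
      rw [sq] at h1
      have h2 : p ∣ j := Nat.dvd_of_mul_dvd_mul_left hpp.pos h1
      exact absurd (Nat.le_of_dvd hj0 h2) (not_le.2 hkp)
  refine not_vertex_of_abelian P' ?_ ?_
  · haveI : IsCyclic P' := isCyclic_of_prime_card hP
    letI := IsCyclic.commGroup (α := P')
    exact fun a ha b hb => congrArg Subtype.val (mul_comm (⟨a, ha⟩ : P') ⟨b, hb⟩)
  · intro hd
    have h := card_mul_index P'
    rw [hP, hN] at h
    have h' : P'.index = t * j :=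
      Nat.eq_of_mul_eq_mul_left hpp.pos (by rw [h]; ring)
    rw [h'] at hd
    rcases hpp.dvd_mul.1 hd with e | e
    · exact hpt e
    · exact absurd (Nat.le_of_dvd hj0 e) (not_le.2 hkp)

end Cfsg.Agent.SmallSimple.DegreeGraph6000
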